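import Cfsg.Agent.H70.FiTwentyTwo.Relations
import Cfsg.Agent.H45.Fi22Top

/-!
A group of type M(22) is isomorphic to the presented group `Fi₂₂`, the first generator going to a member.
-/

set_option autoImplicit false

namespace Cfsg.Agent.H70.FiTwentyTwo

open Cfsg.Agent.H93 Cfsg.Spor

/-- the position of a generator -/
def gIx : Fi22.Gen → Fin 9
  | .a => 0 | .b => 1 | .c => 2 | .d => 3 | .e => 4 | .f => 5 | .g => 6 | .h => 7 | .i => 8

/-- the mirror of the diagram -/
def mirror : Fin 9 → Fin 9 := ![6, 5, 4, 3, 2, 1, 0, 7, 8]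

theorem mirror_adj : ∀ j k : Fin 9,
    adjB tab (mirror j).val (mirror k).val = adjB tab j.val k.val := by decide +kernel

theorem label_eq : ∀ x y : Fi22.Gen, coxLabel Fi22.edges x y =
    if x = y then 1 else if adjB tab (gIx x).val (gIx y).val then 3 else 2 := by
  intro x y; cases x <;> cases y <;> decide +kernel

variable {G : Type*} [Group G] {D : Set G}

theorem Config.mirror {p : Fin 9 → G} (hc : Config D p) : Config D (p ∘ mirror) where
  mem k := hc.mem _
  pat j k := (hc.pat _ _).trans (by rw [mirror_adj])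

variable {K : Type*} [Field K] [Fintype K] [Finite G] (h : Geo22 D K) {p : Fin 9 → G}
  (hc : Config D p)

include h hc

theorem relators_hold :
    ∀ r ∈ coxRelators Fi22.edges ∪ {r | r ∈ Fi22.extra}, FreeGroup.lift (p ∘ gIx) r = 1 := by
  have htt := h.core.tt
  have hr := hc.rels htt
  rintro r (⟨x, -, y, -, rfl⟩ | hrx)
  · rw [map_pow, map_mul, FreeGroup.lift_apply_of, FreeGroup.lift_apply_of, label_eq]
    simp only [Function.comp_apply]
    split_ifs with e1 e2
    · rw [e1, pow_one]; exact htt.sq _ (hc.mem _)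
    · exact htt.cube (hc.mem _) (hc.mem _) (hc.not_comm e2)
    · have hcm := (hc.pat (gIx x) (gIx y)).mpr (by simpa using e2)
      rw [pow_two]; exact htt.sq_of_commute (hc.mem _) (hc.mem _) hcm
  · have hR := spider h hc
    have hZ := e_seven h hc
    have hM := e_seven h hc.mirror
    have h2 := reduces_sound hr red_mir
    rw [wval_append, wval_reverse hr.sq, mul_inv_eq_one] at h2
    have hM' : wval (ext9 p) wM = 1 := by
      rw [← hM]
      simp [wM, wZ, wval, ext9, FiTwentyTwo.mirror, List.replicate]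
    have hZ2 : wval (ext9 p) wZ₂ = 1 := h2.trans hM'
    simp only [wR, wZ, wZ₂, wval_replicate] at hR hZ hZ2
    simp only [Set.mem_setOf_eq, Fi22.extra, List.mem_cons, List.not_mem_nil, or_false] at hrx
    rcases hrx with rfl | rfl | rfl
    · rw [← hR]
      simp [wval, ext9, map_pow, map_mul, FreeGroup.lift_apply_of, gIx, mul_assoc]
    · rw [← hZ]
      simp [wval, ext9, map_pow, map_mul, FreeGroup.lift_apply_of, gIx, mul_assoc]
    · rw [← hZ2]
      simp [wval, ext9, map_pow, map_mul, FreeGroup.lift_apply_of, gIx, mul_assoc]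

/-- the isomorphism given by a configuration -/
theorem config_iso : ∃ φ : Fi22 ≃* G, ∀ x, φ (PresentedGroup.of x) = p (gIx x) := by
  obtain ⟨hfin, hcard, -⟩ := Cfsg.Agent.H45.Fi22Top.order_facts
  have hsimple : IsSimpleGroup Fi22 := Cfsg.Agent.H45.Fi22Top.isSimple
  let f : Fi22 →* G := PresentedGroup.toGroup (relators_hold h hc)
  have hf : ∀ x, f (PresentedGroup.of x) = p (gIx x) := fun x =>
    PresentedGroup.toGroup.of (relators_hold h hc)
  have hinj : Function.Injective f := by
    rcases (hsimple.eq_bot_or_eq_top_of_normal f.ker f.normal_ker) with e | e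
    · exact (MonoidHom.ker_eq_bot_iff f).mp e
    · exfalso
      have e1 : ∀ x, p (gIx x) = 1 := fun x => by
        rw [← hf]; exact MonoidHom.mem_ker.mp (e ▸ Subgroup.mem_top _)
      exact hc.not_comm (j := 0) (k := 1) (by decide +kernel)
        (by rw [show p 0 = 1 from e1 .a]; exact Commute.one_left _)
  have hG : Nat.card G = Nat.card Fi22 := by
    rw [h.card_group (hc.mem 0), show Nat.card Fi22 = 64561751654400 from hcard]
  have hbij : Function.Bijective f :=
    (Nat.bijective_iff_injective_and_card f).mpr ⟨hinj, hG.symm⟩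
  exact ⟨MulEquiv.ofBijective f hbij, hf⟩

end Cfsg.Agent.H70.FiTwentyTwo

namespace Cfsg.Agent.H70.FiTwentyTwo

open Cfsg.Agent.H93 Cfsg.Spor

/-- groups of type M(22) are presented Fi22, with the first generator a member -/
theorem iso_fi22 {G : Type*} [Group G] [Finite G] {D : Set G}
    (hD : Cfsg.IsThreeTranspositionClass D) (h22 : Cfsg.IsOfTypeM22 G D) :
    ∃ φ : Fi22 ≃* G, ∀ x, φ (PresentedGroup.of x) ∈ D := by
  obtain ⟨K, iK, iKF, h⟩ := geo22 hD h22
  obtain ⟨a, -, hD'⟩ := hD.2.1
  have ha : a ∈ D := hD'.symm ▸ (IsConj.refl a)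
  obtain ⟨p, hc⟩ := exists_config h ha
  obtain ⟨φ, hφ⟩ := config_iso h hc
  exact ⟨φ, fun x => (hφ x).symm ▸ hc.mem _⟩

end Cfsg.Agent.H70.FiTwentyTwo
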