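import Cfsg.Agent.H70.FiTwentyTwo.Paths
import Cfsg.Agent.H70.FiTwentyTwo.Words

/-!
Configurations of nine members forming the diagram `Y₃₃₂` and the subgroup fixing five points of a
residue.
-/

set_option autoImplicit false

namespace Cfsg.Agent.H70.FiTwentyTwo

open Cfsg.Agent.H93

variable {G : Type*} [Group G] {D : Set G}

/-- nine members with the commuting pattern of `Y₃₃₂` -/
structure Config (D : Set G) (p : Fin 9 → G) : Prop where
  mem : ∀ k, p k ∈ D
  pat : ∀ j k : Fin 9, Commute (p j) (p k) ↔ adjB tab j.val k.val = false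

/-- the map on all letters -/
def ext9 (p : Fin 9 → G) (x : ℕ) : G := if hx : x < 9 then p ⟨x, hx⟩ else 1

theorem adj_rows : ∀ j k : Fin 9, j ≠ k → ∃ l : Fin 9, adjB tab j.val l.val ≠ adjB tab k.val l.val := by
  decide +kernel

theorem adj_self : ∀ j : Fin 9, adjB tab j.val j.val = false := by decide +kernel

theorem Config.inj {p : Fin 9 → G} (hc : Config D p) {j k : Fin 9} (h : j ≠ k) : p j ≠ p k := by
  intro e
  obtain ⟨l, hl⟩ := adj_rows j k h
  apply hl
  have := (hc.pat j l).symm.trans ((e ▸ Iff.rfl : Commute (p j) (p l) ↔ Commute (p k) (p l)).trans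
    (hc.pat k l))
  cases ha : adjB tab j.val l.val <;> cases hb : adjB tab k.val l.val <;> simp [ha, hb] at this ⊢

theorem Config.nb {p : Fin 9 → G} (hc : Config D p) {j k : Fin 9} (h : k ≠ j)
    (e : adjB tab j.val k.val = false) : p k ∈ nb D (p j) :=
  ⟨hc.mem k, hc.inj h, (hc.pat j k).mpr e⟩

theorem Config.not_comm {p : Fin 9 → G} (hc : Config D p) {j k : Fin 9}
    (e : adjB tab j.val k.val = true) : ¬ Commute (p j) (p k) := fun q => by
  rw [(hc.pat j k).mp q] at e; exact Bool.noConfusion e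

theorem Config.rels {p : Fin 9 → G} (hD : TT D) (hc : Config D p) : RelHolds tab (ext9 p) where
  sq x := by
    unfold ext9
    split
    · exact hD.sq _ (hc.mem _)
    · exact one_mul 1
  comm x y e := by
    unfold ext9
    split <;> split
    · next hx hy => exact (hc.pat ⟨x, hx⟩ ⟨y, hy⟩).mpr e
    all_goals first | exact Commute.one_left _ | exact Commute.one_right _
  braid x y e := by
    have hx : x < 9 := by
      simp only [adjB, Bool.and_eq_true] at e; exact blt_nine e.1.1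
    have hy : y < 9 := by
      simp only [adjB, Bool.and_eq_true] at e; exact blt_nine e.1.2
    simp only [ext9, dif_pos hx, dif_pos hy]
    exact hD.braid (hc.mem _) (hc.mem _) (hc.not_comm (j := ⟨x, hx⟩) (k := ⟨y, hy⟩) e)
where
  blt_nine {x : ℕ} (h : Nat.blt x 9 = true) : x < 9 := Nat.blt_eq.mp h

theorem wval_conj_mem (hD : TT D) {f : ℕ → G} (hsq : ∀ x, f x * f x = 1) (w : List ℕ) {y : ℕ}
    (hy : f y ∈ D) : wval f (w ++ [y] ++ w.reverse) ∈ D := by
  rw [wval_append, wval_append, wval_reverse hsq, wval_cons, wval_nil, mul_one]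
  exact hD.conj_mem _ _ hy

theorem wval_commute {f : ℕ → G} {g : G} (w : List ℕ) (h : ∀ x ∈ w, Commute g (f x)) :
    Commute g (wval f w) := by
  induction w with
  | nil => exact Commute.one_right g
  | cons x w ih =>
    rw [wval_cons]
    exact (h x List.mem_cons_self).mul_right (ih fun y hy => h y (List.mem_cons_of_mem _ hy))

variable {K : Type*} [Field K] [Fintype K] (h : Geo22 D K)

include h

/-- a fixed member gives a fixed line -/
theorem fixed_line {a k : G} (ha : a ∈ D) {π : ↥(Subgroup.centralizer ({a} : Set G)) →* Cfsg.PSU 6 K 2}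
    (he : TwoExt π ⟨a, mem_cent (Commute.refl a)⟩) (xs : ExtSpace h.hK D a π)
    (hk : k ∈ Subgroup.centralizer ({a} : Set G)) {g : ↥(Cfsg.SU 6 K 2)}
    (e : π ⟨k, hk⟩ = QuotientGroup.mk g) {v : Vec K} (hv : IsPt v) (hc : Commute k (xs.sp.pt v)) :
    ∃ t : K, t ≠ 0 ∧ act g v = t • v := by
  have := h.lift ha he xs e hv
  rw [show k * xs.sp.pt v * k⁻¹ = xs.sp.pt v from mul_inv_eq_iff_eq_mul.mpr hc.eq] at this
  obtain ⟨t, ht⟩ := (xs.sp.same hv (act_pt g hv)).mp this
  exact ⟨t, fun q => (act_pt g hv).1 (by rw [ht, q, zero_smul]), ht⟩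

omit h in
/-- linked fixed lines have the same multiplier -/
theorem same_scalar (hK : Fintype.card K = 4) {g : ↥(Cfsg.SU 6 K 2)} {u v : Vec K} {s t : K}
    (hs : s ≠ 0) (eu : act g u = s • u) (ev : act g v = t • v) (hne : hb u v ≠ 0) : s = t := by
  have := act_hb g u v
  rw [eu, ev, hb_smul_left, hb_smul_right, ← mul_assoc] at this
  have hst : s * t ^ 2 = 1 := mul_right_cancel₀ hne (by rw [this, one_mul])
  have ht : t ≠ 0 := fun q => one_ne_zero (α := K) (by rw [← hst, q]; simp)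
  linear_combination t * hst - s * Cfsg.Agent.H93.pow_three hK ht

/-- the elements fixing five consecutive points of a path -/
theorem cent_five {a k : G} (ha : a ∈ D) {π : ↥(Subgroup.centralizer ({a} : Set G)) →* Cfsg.PSU 6 K 2}
    (he : TwoExt π ⟨a, mem_cent (Commute.refl a)⟩) (xs : ExtSpace h.hK D a π)
    (hk : k ∈ Subgroup.centralizer ({a} : Set G)) {g : ↥(Cfsg.SU 6 K 2)}
    (e : π ⟨k, hk⟩ = QuotientGroup.mk g) {u : Fin 6 → Vec K} (hu : IsPath u)
    (hp : ∀ j, IsPt (u j)) {l : K} (hl : l ≠ 0)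
    (fix : ∀ j : Fin 6, j.val < 5 → act g (u j) = l • u j) :
    k = 1 ∨ k = a ∨ k = xs.sp.pt (u 0 + u 2 + u 4) ∨ k = xs.sp.pt (u 0 + u 2 + u 4) * a := by
  have hK := h.hK
  obtain ⟨s, hs, hsact⟩ := exists_scalar hK (inv_ne_zero hl)
  set g' := g * s with hg'
  have e' : π ⟨k, hk⟩ = QuotientGroup.mk g' := by
    rw [e, hg', QuotientGroup.mk_mul, (QuotientGroup.eq_one_iff s).mpr hs, mul_one]
  have fix' : ∀ j : Fin 6, j.val < 5 → act g' (u j) = u j := fun j hj => by
    rw [hg', act_mul, hsact, act_smul, fix j hj, smul_smul, inv_mul_cancel₀ hl, one_smul]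
  obtain ⟨hr, hr5, hr55⟩ := path_radical hK hu
  set r := u 0 + u 2 + u 4 with hr_def
  set δ := act g' (u 5) + u 5 with hδ
  have hδ5 : ∀ j : Fin 6, j.val < 5 → hb δ (u j) = 0 := fun j hj => by
    rw [hδ, hb_add_left]
    have : hb (act g' (u 5)) (u j) = hb (u 5) (u j) := by
      conv_lhs => rw [← fix' j hj, act_hb]
    rw [this]; exact add_self_zero hK _
  set μ := hb δ (u 5) with hμ
  have h5 : act g' (u 5) = u 5 + μ • r := by
    rw [← path_perp hK hu hδ5, hδ, ← add_assoc, add_comm (u 5) (act g' (u 5)), add_assoc,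
      vec_add_self hK, add_zero]
  have h5r : hb (u 5) r = 1 := by rw [hb_conj hK r (u 5), hr55, one_pow]
  have hμ2 : μ = 0 ∨ μ = 1 := by
    have := act_hb g' (u 5) (u 5)
    rw [h5, (hp 5).2] at this
    simp [hb_add_left, hb_add_right hK, hb_smul_left, hb_smul_right, (hp 5).2, hr.2, h5r, hr55] at this
    rcases eq_or_ne μ 0 with q | q
    · exact Or.inl q
    · refine Or.inr (((add_eq_zero_iff_eq' hK).mp ?_))
      exact mul_left_cancel₀ q (by linear_combination this)
  have lin : ∀ g1 g2 : ↥(Cfsg.SU 6 K 2), (∀ j, act g1 (u j) = act g2 (u j)) → g1 = g2 := by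
    intro g1 g2 hh
    refine act_ext fun x => ?_
    obtain ⟨c, rfl⟩ := path_span hu x
    simp [comb, act_add, act_smul, hh]
  rcases hμ2 with q | q
  · have h1 : g' = 1 := lin _ _ fun j => by
      rw [act_one]
      by_cases hj : j.val < 5
      · exact fix' j hj
      · rw [show j = 5 from Fin.ext (by have := j.isLt; show j.val = 5; omega), h5, q, zero_smul, add_zero]
    rw [h1, QuotientGroup.mk_one] at e'
    rcases he.ker _ e' with q' | q'
    · exact Or.inl (congrArg Subtype.val q')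
    · exact Or.inr (Or.inl (congrArg Subtype.val q'))
  · have h1 : g' = tv hK r := lin _ _ fun j => by
      rw [tv_act hK hr.2]
      by_cases hj : j.val < 5
      · rw [fix' j hj, (hb_eq_zero_comm hK).mp (hr5 j hj), zero_smul, add_zero]
      · rw [show j = 5 from Fin.ext (by have := j.isLt; show j.val = 5; omega), h5, q, h5r]
    rw [h1] at e'
    have e2 : π ⟨xs.sp.pt r, mem_cent (xs.sp.mem hr).2.2⟩ = π ⟨k, hk⟩ := by rw [xs.eq hr, e']; rfl
    rcases he.eq_or e2 with q' | q' <;> first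
      | exact Or.inr (Or.inr (Or.inl (congrArg Subtype.val q')))
      | exact Or.inr (Or.inr (Or.inr (congrArg Subtype.val q')))

variable [Finite G]

/-- configurations exist -/
theorem exists_config {a : G} (ha : a ∈ D) : ∃ p : Fin 9 → G, Config D p := by
  have hK := h.hK
  obtain ⟨b, hb', hn⟩ : {y | y ∈ D ∧ ¬ Commute a y}.Nonempty :=
    Set.nonempty_of_ncard_ne_zero (by rw [h.card_far ha]; norm_num)
  obtain ⟨x, hx, hpat⟩ := exists_path h ha hb' hn
  obtain ⟨π, -, ⟨xs⟩⟩ := h.exists_space ha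
  obtain ⟨u, hu, hpath⟩ := path_vecs hK h xs (fun k => (hx k).1) hpat
  set C := u 0 + u 2 with hC
  have hC3 : hb C (u 3) = 1 := by simp [hC, hb_add_left, hpath _ _, pathG]
  have hCp : IsPt C := ⟨fun q => one_ne_zero (α := K) (by rw [← hC3, q, hb_zero_left]), by
    simp [hC, hb_add_left, hb_add_right hK, hpath _ _, pathG]⟩
  have hCa := xs.sp.mem hCp
  set c := xs.sp.pt C with hc_def
  have h11 : (1 : K) + 1 = 0 := add_self_zero hK 1
  have hcx : ∀ k : Fin 6, k ≠ 3 → Commute c (x k) := fun k hk =>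
    comm_of_hb h xs hCp (hu k).1 rfl (hu k).2 (by
      fin_cases k <;> first
        | exact absurd rfl hk
        | simp [hC, hb_add_left, hpath _ _, pathG, h11])
  have nc3 : ¬ Commute c (x 3) := not_comm_of_hb h xs hCp (hu 3).1 rfl (hu 3).2 (by
    rw [hC3]; exact one_ne_zero)
  have ncb : ¬ Commute c b := by
    intro hcb
    -- the residue at the end of the path
    have hg := (hx 0).1.1
    obtain ⟨σ, -, ⟨x0s⟩⟩ := h.exists_space hg
    obtain ⟨A, hA, pA⟩ := x0s.sp.surj a (nb_symm ha (hx 0).1)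
    obtain ⟨B, hB, pB, eBA⟩ := h.coords x0s (nb_symm ha (hx 0).1) (nb_symm hb' (hx 0).2) hA pA hn
    have nbk : ∀ k : Fin 6, 2 ≤ k.val → x k ∈ nb D (x 0) := by
      intro k hk
      refine ⟨(hx k).1.1, fun q => ?_, (hpat 0 k).mpr (by rw [Fin.val_zero]; omega)⟩
      by_cases h2 : k.val = 2
      · have hk2 : k = 2 := Fin.ext h2
        subst hk2
        exact (hpat 2 3).mp (q ▸ (hpat 0 3).mpr (by decide)) (by decide)
      · exact (hpat 0 1).mp (q ▸ (hpat k 1).mpr (by rw [Fin.val_one]; omega)) (by decide)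
    obtain ⟨E2, h2, p2⟩ := x0s.sp.surj _ (nbk 2 (by decide))
    obtain ⟨E3, h3, p3, e32⟩ := h.coords x0s (nbk 2 (by decide)) (nbk 3 (by decide)) h2 p2
      (fun q => (hpat 2 3).mp q (by decide))
    obtain ⟨E4, h4, p4, e43⟩ := h.coords x0s (nbk 3 (by decide)) (nbk 4 (by decide)) h3 p3
      (fun q => (hpat 3 4).mp q (by decide))
    obtain ⟨E5, h5, p5, e54⟩ := h.coords x0s (nbk 4 (by decide)) (nbk 5 (by decide)) h4 p4
      (fun q => (hpat 4 5).mp q (by decide))
    have hcg : c ∈ nb D (x 0) :=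
      ⟨hCa.1, fun q => nc3 (q ▸ (hpat 0 3).mpr (by decide)), (hcx 0 (by decide)).symm⟩
    obtain ⟨Cv, hCv, pC⟩ := x0s.sp.surj c hcg
    let u' : Fin 6 → Vec K := ![A, B, E2, E3, E4, E5]
    have z {p q : Vec K} {r s : G} (hp : IsPt p) (hq : IsPt q) (pp : x0s.sp.pt p = r)
        (pq : x0s.sp.pt q = s) (cm : Commute r s) : hb p q = 0 ∧ hb q p = 0 :=
      ⟨hb_of_comm h x0s hp hq pp pq cm, hb_of_comm h x0s hq hp pq pp cm.symm⟩
    have eAB : hb A B = 1 := by rw [hb_conj hK B A, eBA, one_pow]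
    have e23 : hb E2 E3 = 1 := by rw [hb_conj hK E3 E2, e32, one_pow]
    have e34 : hb E3 E4 = 1 := by rw [hb_conj hK E4 E3, e43, one_pow]
    have e45 : hb E4 E5 = 1 := by rw [hb_conj hK E5 E4, e54, one_pow]
    have a2 := z hA h2 pA p2 (hx 2).1.2.2
    have a3 := z hA h3 pA p3 (hx 3).1.2.2
    have a4 := z hA h4 pA p4 (hx 4).1.2.2
    have a5 := z hA h5 pA p5 (hx 5).1.2.2
    have b2 := z hB h2 pB p2 (hx 2).2.2.2
    have b3 := z hB h3 pB p3 (hx 3).2.2.2
    have b4 := z hB h4 pB p4 (hx 4).2.2.2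
    have b5 := z hB h5 pB p5 (hx 5).2.2.2
    have w24 := z h2 h4 p2 p4 ((hpat 2 4).mpr (by decide))
    have w25 := z h2 h5 p2 p5 ((hpat 2 5).mpr (by decide))
    have w35 := z h3 h5 p3 p5 ((hpat 3 5).mpr (by decide))
    have eqs : ∀ c : Fin 6 → K, hb (comb u' c) (u' 0) = c 1 ∧ hb (comb u' c) (u' 1) = c 0 ∧
        hb (comb u' c) (u' 2) = c 3 ∧ hb (comb u' c) (u' 3) = c 2 + c 4 ∧
        hb (comb u' c) (u' 4) = c 3 + c 5 ∧ hb (comb u' c) (u' 5) = c 4 := by
      intro c
      simp [hb_comb, u', hA.2, hB.2, h2.2, h3.2, h4.2, h5.2, eBA, eAB, e32, e23, e43, e34, e54, e45,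
        a2.1, a2.2, a3.1, a3.2, a4.1, a4.2, a5.1, a5.2, b2.1, b2.2, b3.1, b3.2, b4.1, b4.2, b5.1,
        b5.2, w24.1, w24.2, w25.1, w25.2, w35.1, w35.2]
    obtain ⟨v, hv⟩ := span_six (u := u') (fun c hc => by
      obtain ⟨q0, q1, q2, q3, q4, q5⟩ := eqs c
      rw [hc] at q0 q1 q2 q3 q4 q5
      funext k
      fin_cases k
      · exact q1.symm
      · exact q0.symm
      · show c 2 = 0; linear_combination -q3 + q5
      · exact q2.symm
      · exact q5.symm
      · show c 5 = 0; linear_combination -q4 + q2) Cv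
    obtain ⟨q0, q1, q2, q3, q4, q5⟩ := eqs v
    rw [← hv] at q0 q1 q2 q3 q4 q5
    have r0 := (z hCv hA pC pA hCa.2.2.symm).1
    have r1 := (z hCv hB pC pB hcb).1
    have r2 := (z hCv h2 pC p2 (hcx 2 (by decide))).1
    have r4 := (z hCv h4 pC p4 (hcx 4 (by decide))).1
    have r5 := (z hCv h5 pC p5 (hcx 5 (by decide))).1
    have k0 : v 0 = 0 := q1.symm.trans r1
    have k1 : v 1 = 0 := q0.symm.trans r0
    have k3 : v 3 = 0 := q2.symm.trans r2
    have k5 : v 5 = 0 := by simpa [k3] using q4.symm.trans r4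
    have k4 : v 4 = 0 := q5.symm.trans r5
    have eC : Cv = v 2 • E2 := by rw [hv]; simp [comb, u', k0, k1, k3, k4, k5]
    have : c = x 2 := by
      rw [← pC, ← p2]
      exact ((x0s.sp.same h2 hCv).mpr ⟨v 2, eC⟩).symm
    exact (hpat 2 1).mp (this ▸ hcx 1 (by decide)) (by decide)
  refine ⟨![a, b, c, x 3, x 2, x 1, x 0, x 4, x 5], ⟨fun k => ?_, fun j k => ?_⟩⟩
  · fin_cases k
    exacts [ha, hb', hCa.1, (hx 3).1.1, (hx 2).1.1, (hx 1).1.1, (hx 0).1.1, (hx 4).1.1, (hx 5).1.1]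
  · have ax : ∀ k, Commute a (x k) ∧ Commute b (x k) := fun k => ⟨(hx k).1.2.2, (hx k).2.2.2⟩
    have xa : ∀ k, Commute (x k) a ∧ Commute (x k) b := fun k => ⟨(ax k).1.symm, (ax k).2.symm⟩
    have hac : Commute a c := hCa.2.2
    have xc : ∀ k, k ≠ 3 → Commute (x k) c := fun k hk => (hcx k hk).symm
    have n10 : ¬ Commute b a := fun q => hn q.symm
    have n12 : ¬ Commute b c := fun q => ncb q.symm
    have n32 : ¬ Commute (x 3) c := fun q => nc3 q.symm
    fin_cases j <;> fin_cases k <;>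
      simp [tab, adjB, Nat.beq, Commute.refl, ax, xa, hac, hac.symm, hn, n10, ncb, n12, nc3, n32, hcx, xc,
        hpat _ _]

end Cfsg.Agent.H70.FiTwentyTwo
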