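import Cfsg.Agent.H93.Geo22
import Cfsg.Agent.H93.Common22
import Cfsg.Agent.H93.Count22

/-!
Six points forming a path or a tree in the six dimensional Hermitian space, and their members in a
residue.
-/

set_option autoImplicit false

namespace Cfsg.Agent.H70.FiTwentyTwo

open Cfsg.Agent.H93

variable {K : Type*} [Field K] [Fintype K]

/-- the combination of six vectors -/
def comb (u : Fin 6 → Vec K) (c : Fin 6 → K) : Vec K :=
  c 0 • u 0 + c 1 • u 1 + c 2 • u 2 + c 3 • u 3 + c 4 • u 4 + c 5 • u 5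

omit [Fintype K] in
theorem hb_comb (u : Fin 6 → Vec K) (c : Fin 6 → K) (x : Vec K) :
    hb (comb u c) x = c 0 * hb (u 0) x + c 1 * hb (u 1) x + c 2 * hb (u 2) x + c 3 * hb (u 3) x +
      c 4 * hb (u 4) x + c 5 * hb (u 5) x := by
  simp [comb, hb_add_left, hb_smul_left]

omit [Fintype K] in
/-- six vectors with an invertible matrix of products span the space -/
theorem span_six {u : Fin 6 → Vec K}
    (hsys : ∀ c : Fin 6 → K, (∀ k, hb (comb u c) (u k) = 0) → c = 0) (x : Vec K) :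
    ∃ c : Fin 6 → K, x = comb u c := by
  let T : (Fin 6 → K) →ₗ[K] (Fin 6 → K) :=
    { toFun := comb u
      map_add' := fun a b => by simp [comb, add_smul]; abel
      map_smul' := fun a b => by simp [comb, mul_smul, smul_add] }
  have hinj : Function.Injective T := by
    rw [← LinearMap.ker_eq_bot, LinearMap.ker_eq_bot']
    intro c hc
    refine hsys c fun k => ?_
    rw [show comb u c = 0 from hc, hb_zero_left]
  obtain ⟨c, hc⟩ := LinearMap.injective_iff_surjective.mp hinj x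
  exact ⟨c, hc.symm⟩

/-- the products along a path -/
def pathG (j k : Fin 6) : K := if j.val + 1 = k.val ∨ k.val + 1 = j.val then 1 else 0

/-- the products along the tree `f - e - d - h - i` with `c` at `d` -/
def treeG (j k : Fin 6) : K :=
  if (j.val < 5 ∧ k.val < 5 ∧ (j.val + 1 = k.val ∨ k.val + 1 = j.val)) ∨
    (j.val = 2 ∧ k.val = 5) ∨ (j.val = 5 ∧ k.val = 2) then 1 else 0

/-- six vectors with the products of a path -/
def IsPath (u : Fin 6 → Vec K) : Prop := ∀ j k, hb (u j) (u k) = pathG j k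

/-- six vectors with the products of the tree -/
def IsTree (u : Fin 6 → Vec K) : Prop := ∀ j k, hb (u j) (u k) = treeG j k

omit [Fintype K] in
theorem path_eqs {u : Fin 6 → Vec K} (hu : IsPath u) (c : Fin 6 → K) :
    hb (comb u c) (u 0) = c 1 ∧ hb (comb u c) (u 1) = c 0 + c 2 ∧
    hb (comb u c) (u 2) = c 1 + c 3 ∧ hb (comb u c) (u 3) = c 2 + c 4 ∧
    hb (comb u c) (u 4) = c 3 + c 5 ∧ hb (comb u c) (u 5) = c 4 := by
  simp only [hb_comb, hu _ _]
  simp [pathG]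

omit [Fintype K] in
theorem path_span {u : Fin 6 → Vec K} (hu : IsPath u) (x : Vec K) :
    ∃ c : Fin 6 → K, x = comb u c := by
  refine span_six (fun c hc => ?_) x
  obtain ⟨e0, e1, e2, e3, e4, e5⟩ := path_eqs hu c
  rw [hc] at e0 e1 e2 e3 e4 e5
  have h3 : c 3 = 0 := by linear_combination -e2 + e0
  have h2 : c 2 = 0 := by linear_combination -e3 + e5
  funext k
  fin_cases k
  · show c 0 = 0; linear_combination -e1 - h2
  · exact e0.symm
  · exact h2
  · exact h3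
  · exact e5.symm
  · show c 5 = 0; linear_combination -e4 - h3

variable (hK : Fintype.card K = 4)

include hK

/-- only one point is orthogonal to five consecutive points of a path -/
theorem path_perp {u : Fin 6 → Vec K} (hu : IsPath u) {x : Vec K}
    (hx : ∀ k : Fin 6, k.val < 5 → hb x (u k) = 0) :
    x = hb x (u 5) • (u 0 + u 2 + u 4) := by
  obtain ⟨c, rfl⟩ := path_span hu x
  obtain ⟨e0, e1, e2, e3, e4, e5⟩ := path_eqs hu c
  rw [hx 0 (by decide)] at e0
  rw [hx 1 (by decide)] at e1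
  rw [hx 2 (by decide)] at e2
  rw [hx 3 (by decide)] at e3
  rw [hx 4 (by decide)] at e4
  rw [e5]
  have h20 : c 2 = c 0 := ((add_eq_zero_iff_eq' hK).mp e1.symm).symm
  have h24 : c 2 = c 4 := (add_eq_zero_iff_eq' hK).mp e3.symm
  have h3 : c 3 = 0 := by linear_combination -e2 + e0
  have h5 : c 5 = 0 := by linear_combination -e4 - h3
  simp [comb, ← e0, h3, h5, ← h20, ← h24, smul_add]

/-- only one point is orthogonal to the five points of the tree other than `c` -/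
theorem tree_perp {u : Fin 6 → Vec K} (hu : IsTree u) {x : Vec K}
    (hx : ∀ k : Fin 6, k.val < 5 → hb x (u k) = 0) :
    x = hb x (u 5) • (u 0 + u 2 + u 4) := by
  have eqs : ∀ c : Fin 6 → K, hb (comb u c) (u 0) = c 1 ∧ hb (comb u c) (u 1) = c 0 + c 2 ∧
      hb (comb u c) (u 2) = c 1 + c 3 + c 5 ∧ hb (comb u c) (u 3) = c 2 + c 4 ∧
      hb (comb u c) (u 4) = c 3 ∧ hb (comb u c) (u 5) = c 2 := by
    intro c
    simp only [hb_comb, hu _ _]
    simp [treeG]
  obtain ⟨c, rfl⟩ := span_six (fun c hc => by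
    obtain ⟨e0, e1, e2, e3, e4, e5⟩ := eqs c
    rw [hc] at e0 e1 e2 e3 e4 e5
    funext k
    fin_cases k
    · show c 0 = 0; linear_combination -e1 + e5
    · exact e0.symm
    · exact e5.symm
    · exact e4.symm
    · show c 4 = 0; linear_combination -e3 + e5
    · show c 5 = 0; linear_combination -e2 + e0 + e4) x
  obtain ⟨e0, e1, e2, e3, e4, e5⟩ := eqs c
  rw [hx 0 (by decide)] at e0
  rw [hx 1 (by decide)] at e1
  rw [hx 2 (by decide)] at e2
  rw [hx 3 (by decide)] at e3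
  rw [hx 4 (by decide)] at e4
  rw [e5]
  have h20 : c 2 = c 0 := ((add_eq_zero_iff_eq' hK).mp e1.symm).symm
  have h24 : c 2 = c 4 := (add_eq_zero_iff_eq' hK).mp e3.symm
  have h5 : c 5 = 0 := by linear_combination -e2 + e0 + e4
  simp [comb, ← e0, ← e4, h5, ← h20, ← h24, smul_add]

theorem path_radical {u : Fin 6 → Vec K} (hu : IsPath u) :
    IsPt (u 0 + u 2 + u 4) ∧ (∀ k : Fin 6, k.val < 5 → hb (u 0 + u 2 + u 4) (u k) = 0) ∧
      hb (u 0 + u 2 + u 4) (u 5) = 1 := by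
  have h5 : hb (u 0 + u 2 + u 4) (u 5) = 1 := by
    simp [hb_add_left, hu _ _, pathG]
  refine ⟨⟨fun e => one_ne_zero (α := K) (by rw [← h5, e, hb_zero_left]), ?_⟩, fun k hk => ?_, h5⟩
  · simp [hb_add_left, hb_add_right hK, hu _ _, pathG]
  · have h11 : (1 : K) + 1 = 0 := add_self_zero hK 1
    fin_cases k <;> first
      | exact absurd hk (by decide)
      | simp [hb_add_left, hu _ _, pathG, h11]

variable {G : Type*} [Group G] {D : Set G}

/-- members along a path, as vectors -/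
theorem path_vecs (h : Geo22 D K) {z : G}
    {π : ↥(Subgroup.centralizer ({z} : Set G)) →* Cfsg.PSU 6 K 2}
    (xs : ExtSpace h.hK D z π) {x : Fin 6 → G} (hx : ∀ k, x k ∈ nb D z)
    (hpat : ∀ j k : Fin 6, Commute (x j) (x k) ↔ ¬ (j.val + 1 = k.val ∨ k.val + 1 = j.val)) :
    ∃ u : Fin 6 → Vec K, (∀ k, IsPt (u k) ∧ xs.sp.pt (u k) = x k) ∧ IsPath u := by
  obtain ⟨u0, hu0, p0⟩ := xs.sp.surj _ (hx 0)
  obtain ⟨u1, hu1, p1, e1⟩ := h.coords xs (hx 0) (hx 1) hu0 p0 (fun q => (hpat 0 1).mp q (by decide))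
  obtain ⟨u2, hu2, p2, e2⟩ := h.coords xs (hx 1) (hx 2) hu1 p1 (fun q => (hpat 1 2).mp q (by decide))
  obtain ⟨u3, hu3, p3, e3⟩ := h.coords xs (hx 2) (hx 3) hu2 p2 (fun q => (hpat 2 3).mp q (by decide))
  obtain ⟨u4, hu4, p4, e4⟩ := h.coords xs (hx 3) (hx 4) hu3 p3 (fun q => (hpat 3 4).mp q (by decide))
  obtain ⟨u5, hu5, p5, e5⟩ := h.coords xs (hx 4) (hx 5) hu4 p4 (fun q => (hpat 4 5).mp q (by decide))
  let u : Fin 6 → Vec K := ![u0, u1, u2, u3, u4, u5]
  have hu : ∀ k, IsPt (u k) ∧ xs.sp.pt (u k) = x k := by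
    intro k
    fin_cases k
    exacts [⟨hu0, p0⟩, ⟨hu1, p1⟩, ⟨hu2, p2⟩, ⟨hu3, p3⟩, ⟨hu4, p4⟩, ⟨hu5, p5⟩]
  have succ : ∀ j k : Fin 6, j.val + 1 = k.val → hb (u k) (u j) = 1 := by
    intro j k hjk
    fin_cases j <;> fin_cases k <;> first
      | exact absurd hjk (by decide)
      | assumption
  refine ⟨u, hu, fun j k => ?_⟩
  unfold pathG
  split
  · next e =>
    rcases e with e | e
    · rw [hb_conj hK (u k) (u j), succ j k e, one_pow]
    · exact succ k j e
  · next e =>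
    exact (xs.sp.comm (hu j).1 (hu k).1).mp ((hu j).2.symm ▸ (hu k).2.symm ▸ (hpat j k).mpr e)

/-- members along the tree, as vectors -/
theorem tree_vecs (h : Geo22 D K) {z : G}
    {π : ↥(Subgroup.centralizer ({z} : Set G)) →* Cfsg.PSU 6 K 2}
    (xs : ExtSpace h.hK D z π) {x : Fin 6 → G} (hx : ∀ k, x k ∈ nb D z)
    (hpat : ∀ j k : Fin 6, Commute (x j) (x k) ↔
      ¬ ((j.val < 5 ∧ k.val < 5 ∧ (j.val + 1 = k.val ∨ k.val + 1 = j.val)) ∨
        (j.val = 2 ∧ k.val = 5) ∨ (j.val = 5 ∧ k.val = 2))) :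
    ∃ u : Fin 6 → Vec K, (∀ k, IsPt (u k) ∧ xs.sp.pt (u k) = x k) ∧ IsTree u := by
  obtain ⟨u0, hu0, p0⟩ := xs.sp.surj _ (hx 0)
  obtain ⟨u1, hu1, p1, e1⟩ := h.coords xs (hx 0) (hx 1) hu0 p0 (fun q => (hpat 0 1).mp q (by decide))
  obtain ⟨u2, hu2, p2, e2⟩ := h.coords xs (hx 1) (hx 2) hu1 p1 (fun q => (hpat 1 2).mp q (by decide))
  obtain ⟨u3, hu3, p3, e3⟩ := h.coords xs (hx 2) (hx 3) hu2 p2 (fun q => (hpat 2 3).mp q (by decide))
  obtain ⟨u4, hu4, p4, e4⟩ := h.coords xs (hx 3) (hx 4) hu3 p3 (fun q => (hpat 3 4).mp q (by decide))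
  obtain ⟨u5, hu5, p5, e5⟩ := h.coords xs (hx 2) (hx 5) hu2 p2 (fun q => (hpat 2 5).mp q (by decide))
  let u : Fin 6 → Vec K := ![u0, u1, u2, u3, u4, u5]
  have hu : ∀ k, IsPt (u k) ∧ xs.sp.pt (u k) = x k := by
    intro k
    fin_cases k
    exacts [⟨hu0, p0⟩, ⟨hu1, p1⟩, ⟨hu2, p2⟩, ⟨hu3, p3⟩, ⟨hu4, p4⟩, ⟨hu5, p5⟩]
  have succ : ∀ j k : Fin 6, (k.val < 5 ∧ j.val + 1 = k.val) ∨ (j.val = 2 ∧ k.val = 5) →
      hb (u k) (u j) = 1 := by
    intro j k hjk
    fin_cases j <;> fin_cases k <;> first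
      | exact absurd hjk (by decide)
      | assumption
  refine ⟨u, hu, fun j k => ?_⟩
  unfold treeG
  split
  · next e =>
    rcases e with ⟨hj, hk, e | e⟩ | e | e
    · rw [hb_conj hK (u k) (u j), succ j k (Or.inl ⟨hk, e⟩), one_pow]
    · exact succ k j (Or.inl ⟨hj, e⟩)
    · rw [hb_conj hK (u k) (u j), succ j k (Or.inr e), one_pow]
    · exact succ k j (Or.inr ⟨e.2, e.1⟩)
  · next e =>
    exact (xs.sp.comm (hu j).1 (hu k).1).mp ((hu j).2.symm ▸ (hu k).2.symm ▸ (hpat j k).mpr e)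

end Cfsg.Agent.H70.FiTwentyTwo
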