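import Cfsg.Agent.H70.FiTwentyTwo.Orbit

/-!
No common neighbour of two members that do not commute is orthogonal to five consecutive members of a
path of six common neighbours.
-/

set_option autoImplicit false

namespace Cfsg.Agent.H70.FiTwentyTwo

open Cfsg.Agent.H93

/-- the commuting pattern of a path -/
def PathPat {G : Type*} [Group G] (x : Fin 6 → G) : Prop :=
  ∀ j k : Fin 6, Commute (x j) (x k) ↔ ¬ (j.val + 1 = k.val ∨ k.val + 1 = j.val)

variable {K : Type*} [Field K] [Fintype K] {G : Type*} [Group G] {D : Set G}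

theorem not_comm_of_hb (h : Geo22 D K) {z : G}
    {π : ↥(Subgroup.centralizer ({z} : Set G)) →* Cfsg.PSU 6 K 2} (xs : ExtSpace h.hK D z π)
    {p q : G} {u v : Vec K} (hu : IsPt u) (hv : IsPt v) (pu : xs.sp.pt u = p) (pv : xs.sp.pt v = q)
    (hne : hb u v ≠ 0) : ¬ Commute p q := fun c => by
  subst pu pv
  exact hne ((xs.sp.comm hu hv).mp c)

theorem comm_of_hb (h : Geo22 D K) {z : G}
    {π : ↥(Subgroup.centralizer ({z} : Set G)) →* Cfsg.PSU 6 K 2} (xs : ExtSpace h.hK D z π)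
    {p q : G} {u v : Vec K} (hu : IsPt u) (hv : IsPt v) (pu : xs.sp.pt u = p) (pv : xs.sp.pt v = q)
    (he : hb u v = 0) : Commute p q := by
  subst pu pv
  exact (xs.sp.comm hu hv).mpr he

theorem hb_of_comm (h : Geo22 D K) {z : G}
    {π : ↥(Subgroup.centralizer ({z} : Set G)) →* Cfsg.PSU 6 K 2} (xs : ExtSpace h.hK D z π)
    {p q : G} {u v : Vec K} (hu : IsPt u) (hv : IsPt v) (pu : xs.sp.pt u = p) (pv : xs.sp.pt v = q)
    (c : Commute p q) : hb u v = 0 := by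
  subst pu pv
  exact (xs.sp.comm hu hv).mp c

/-- no common neighbour is orthogonal to five consecutive members of a path -/
theorem no_five [Finite G] (h : Geo22 D K) {a b : G} (ha : a ∈ D) (hb' : b ∈ D)
    (hn : ¬ Commute a b) {x : Fin 6 → G} (hx : ∀ k, x k ∈ common D a b) (hpat : PathPat x) {y : G}
    (hy : y ∈ common D a b) (hyx : ∀ k : Fin 6, k.val < 5 → Commute y (x k)) : False := by
  have hK := h.hK
  have hcc := hb_conj hK
  obtain ⟨w, hw0, hw1, hw⟩ := exists_omega hK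
  -- the residue at the first member
  have hx0 := (hx 0).1.1
  obtain ⟨π0, -, ⟨x0s⟩⟩ := h.exists_space hx0
  have nbk : ∀ k : Fin 6, 2 ≤ k.val → x k ∈ nb D (x 0) := by
    intro k hk
    refine ⟨(hx k).1.1, fun q => ?_, (hpat 0 k).mpr (by rw [Fin.val_zero]; omega)⟩
    by_cases h2 : k.val = 2
    · have hk2 : k = 2 := Fin.ext h2
      subst hk2
      exact (hpat 2 3).mp (q ▸ (hpat 0 3).mpr (by decide)) (by decide)
    · exact (hpat 0 1).mp (q ▸ (hpat k 1).mpr (by rw [Fin.val_one]; omega)) (by decide)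
  obtain ⟨va, hva, pva⟩ := x0s.sp.surj a (nb_symm ha (hx 0).1)
  obtain ⟨vb, hvb, pvb⟩ := x0s.sp.surj b (nb_symm hb' (hx 0).2)
  obtain ⟨v2, hv2, pv2⟩ := x0s.sp.surj _ (nbk 2 (by decide))
  obtain ⟨v3, hv3, pv3, e32⟩ := h.coords x0s (nbk 2 (by decide)) (nbk 3 (by decide)) hv2 pv2
    (fun q => (hpat 2 3).mp q (by decide))
  obtain ⟨v4, hv4, pv4, e43⟩ := h.coords x0s (nbk 3 (by decide)) (nbk 4 (by decide)) hv3 pv3
    (fun q => (hpat 3 4).mp q (by decide))
  obtain ⟨v5, hv5, pv5, e54⟩ := h.coords x0s (nbk 4 (by decide)) (nbk 5 (by decide)) hv4 pv4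
    (fun q => (hpat 4 5).mp q (by decide))
  have e23 : hb v2 v3 = 1 := by rw [hcc v3 v2, e32, one_pow]
  have e34 : hb v3 v4 = 1 := by rw [hcc v4 v3, e43, one_pow]
  have e45 : hb v4 v5 = 1 := by rw [hcc v5 v4, e54, one_pow]
  have e24 := hb_of_comm h x0s hv2 hv4 pv2 pv4 ((hpat 2 4).mpr (by decide))
  have e42 := hb_of_comm h x0s hv4 hv2 pv4 pv2 ((hpat 4 2).mpr (by decide))
  have e25 := hb_of_comm h x0s hv2 hv5 pv2 pv5 ((hpat 2 5).mpr (by decide))
  have e35 := hb_of_comm h x0s hv3 hv5 pv3 pv5 ((hpat 3 5).mpr (by decide))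
  have e53 := hb_of_comm h x0s hv5 hv3 pv5 pv3 ((hpat 5 3).mpr (by decide))
  have e52 := hb_of_comm h x0s hv5 hv2 pv5 pv2 ((hpat 5 2).mpr (by decide))
  have eka : ∀ {k v}, IsPt v → x0s.sp.pt v = x k → hb v va = 0 ∧ hb v vb = 0 := fun {k v} hv pv =>
    ⟨hb_of_comm h x0s hv hva pv pva (hx k).1.2.2.symm,
      hb_of_comm h x0s hv hvb pv pvb (hx k).2.2.2.symm⟩
  have h11 : (1 : K) + 1 = 0 := add_self_zero hK 1
  -- the eighth member
  set U := v2 + w • v4 with hU_def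
  have hU3 : hb U v3 ≠ 0 := by
    rw [hU_def, hb_add_left, hb_smul_left, e23, e43, mul_one]
    exact fun q => hw1 ((add_eq_zero_iff_eq' hK).mp q).symm
  have hUp : IsPt U := ⟨fun q => hU3 (by rw [q, hb_zero_left]), by
    simp [hU_def, hb_add_left, hb_add_right hK, hb_smul_left, hb_smul_right, hv2.2, hv4.2, e24, e42]⟩
  have hUx0 := x0s.sp.mem hUp
  set m := x0s.sp.pt U with hm_def
  have n3 : ¬ Commute m (x 3) := not_comm_of_hb h x0s hUp hv3 rfl pv3 hU3
  have n5 : ¬ Commute m (x 5) := not_comm_of_hb h x0s hUp hv5 rfl pv5 (by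
    rw [hU_def, hb_add_left, hb_smul_left, e25, e45, mul_one, zero_add]; exact hw0)
  have cma : Commute m a := comm_of_hb h x0s hUp hva rfl pva (by
    simp [hU_def, hb_add_left, hb_smul_left, (eka hv2 pv2).1, (eka hv4 pv4).1])
  have cmb' : Commute m b := comm_of_hb h x0s hUp hvb rfl pvb (by
    simp [hU_def, hb_add_left, hb_smul_left, (eka hv2 pv2).2, (eka hv4 pv4).2])
  have cm2 : Commute m (x 2) := comm_of_hb h x0s hUp hv2 rfl pv2 (by
    simp [hU_def, hb_add_left, hb_smul_left, hv2.2, e42])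
  have cm4 : Commute m (x 4) := comm_of_hb h x0s hUp hv4 rfl pv4 (by
    simp [hU_def, hb_add_left, hb_smul_left, hv4.2, e24])
  have hmc : m ∈ common D a b :=
    ⟨⟨hUx0.1, fun q => n3 (q ▸ (hx 3).1.2.2), cma.symm⟩,
      ⟨hUx0.1, fun q => n3 (q ▸ (hx 3).2.2.2), cmb'.symm⟩⟩
  -- a test member
  set Z := v3 + v5 with hZ_def
  have hZp : IsPt Z := ⟨fun q => one_ne_zero (α := K) (by
      have : hb Z v2 = 1 := by rw [hZ_def, hb_add_left, e32, e52, add_zero]
      rw [← this, q, hb_zero_left]), by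
    simp [hZ_def, hb_add_left, hb_add_right hK, hv3.2, hv5.2, e35, e53]⟩
  have hZx0 := x0s.sp.mem hZp
  set z := x0s.sp.pt Z with hz_def
  have nmz : ¬ Commute m z := not_comm_of_hb h x0s hUp hZp rfl rfl (by
    simp [hU_def, hZ_def, hb_add_left, hb_add_right hK, hb_smul_left, e23, e25, e43, e45]
    rw [add_assoc, show w + w = 0 from add_self_zero hK w, add_zero]
    exact one_ne_zero)
  have cza : Commute z a := comm_of_hb h x0s hZp hva rfl pva (by
    simp [hZ_def, hb_add_left, (eka hv3 pv3).1, (eka hv5 pv5).1])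
  have cz4 : Commute z (x 4) := comm_of_hb h x0s hZp hv4 rfl pv4 (by
    simp [hZ_def, hb_add_left, e34, e54, h11])
  have hza : z ∈ nb D a := ⟨hZx0.1, fun q => nmz (q ▸ cma), cza.symm⟩
  -- the residue at `a`
  obtain ⟨π, -, ⟨xs⟩⟩ := h.exists_space ha
  obtain ⟨u, hu, hpath⟩ := path_vecs hK h xs (fun k => (hx k).1) hpat
  have hup : ∀ k, IsPt (u k) := fun k => (hu k).1
  obtain ⟨Y, hY, pY⟩ := xs.sp.surj y hy.1
  obtain ⟨M, hM, pM⟩ := xs.sp.surj m hmc.1
  obtain ⟨Zv, hZv, pZv⟩ := xs.sp.surj z hza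
  have hY5 : ∀ k : Fin 6, k.val < 5 → hb Y (u k) = 0 := fun k hk =>
    hb_of_comm h xs hY (hu k).1 pY (hu k).2 (hyx k hk)
  have hYe := path_perp hK hpath hY5
  have hr : xs.sp.pt (u 0 + u 2 + u 4) ∈ common D a b := by
    have h0 : hb Y (u 5) ≠ 0 := fun q => hY.1 (by rw [hYe, q, zero_smul])
    have := xs.sp.smul_pt h0 (path_radical hK hpath).1
    rw [← hYe, pY] at this
    rw [← this.2]; exact hy
  obtain ⟨c, hc⟩ := path_span hpath M
  obtain ⟨a0, a1, a2, a3, a4, a5⟩ := path_eqs hpath c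
  rw [← hc] at a0 a1 a2 a3 a4 a5
  have z0 := hb_of_comm h xs hM (hu 0).1 pM (hu 0).2 hUx0.2.2.symm
  have z2 := hb_of_comm h xs hM (hu 2).1 pM (hu 2).2 cm2
  have z4 := hb_of_comm h xs hM (hu 4).1 pM (hu 4).2 cm4
  have c1 : c 1 = 0 := a0.symm.trans z0
  have c3 : c 3 = 0 := by linear_combination z2 - a2 - c1
  have c5 : c 5 = 0 := by linear_combination z4 - a4 - c3
  have c4 : c 4 ≠ 0 := fun q => n5 (comm_of_hb h xs hM (hu 5).1 pM (hu 5).2 (a5.trans q))
  have c24 : c 2 ≠ c 4 := fun q => n3 (comm_of_hb h xs hM (hu 3).1 pM (hu 3).2 (by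
    rw [a3, q]; exact add_self_zero hK _))
  have c2 : c 2 ≠ 0 := fun q => nmz (comm_of_hb h xs hM hZv pM pZv (by
    rw [hc, hb_comb, c1, c3, c5, q,
      (hb_eq_zero_comm hK).mp (hb_of_comm h xs hZv (hu 0).1 pZv (hu 0).2 hZx0.2.2.symm),
      (hb_eq_zero_comm hK).mp (hb_of_comm h xs hZv (hu 4).1 pZv (hu 4).2 cz4)]
    simp))
  have hMs := xs.sp.smul_pt (inv_ne_zero c4) hM
  have he : (c 4)⁻¹ • M = (c 0 / c 4) • u 0 + (c 2 / c 4) • u 2 + u 4 := by
    rw [hc]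
    simp [comb, c1, c3, c5, smul_add, smul_smul, inv_mul_cancel₀ c4, div_eq_inv_mul]
  rw [he] at hMs
  refine too_many hK hw h ha hb' hn xs hup (fun k => (hu k).2.symm ▸ hx k) hpath hr
    (c0 := c 0 / c 4) (c2 := c 2 / c 4) (div_ne_zero c2 c4)
    (fun q => c24 ((div_eq_one_iff_eq c4).mp q)) ⟨hMs.1, ?_⟩
  rw [hMs.2, pM]
  exact hmc

end Cfsg.Agent.H70.FiTwentyTwo
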