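import Cfsg.Agent.H70.FiTwentyTwo.Coords

/-!
Counting: a path of six common neighbours, a seventh member orthogonal to five of them and a suitable
eighth one would give more than 126 common neighbours.
-/

set_option autoImplicit false
set_option maxRecDepth 100000

namespace Cfsg.Agent.H70.FiTwentyTwo

open Cfsg.Agent.H93

/-- a number for a scalar -/
def enc4 (x : B4) : ℕ := (if x.1 then 1 else 0) + (if x.2 then 2 else 0)

/-- a number for six coordinates -/
def enc6 : B6 → ℕ
  | (x0, x1, x2, x3, x4, x5) =>
    enc4 x0 + 4 * (enc4 x1 + 4 * (enc4 x2 + 4 * (enc4 x3 + 4 * (enc4 x4 + 4 * enc4 x5))))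

/-- scalar multiples -/
def smul6 (t : B4) : B6 → B6
  | (x0, x1, x2, x3, x4, x5) =>
    (bmul t x0, bmul t x1, bmul t x2, bmul t x3, bmul t x4, bmul t x5)

/-- the first non-zero coordinate, or one -/
def lead6 : B6 → B4
  | (x0, x1, x2, x3, x4, x5) =>
    if x0.1 || x0.2 then x0 else if x1.1 || x1.2 then x1 else if x2.1 || x2.2 then x2
      else if x3.1 || x3.2 then x3 else if x4.1 || x4.2 then x4
      else if x5.1 || x5.2 then x5 else (true, false)

/-- normalised coordinates -/
def norm6 (c : B6) : B6 := smul6 (bmul (lead6 c) (lead6 c)) c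

/-- conjugation by the points of the path -/
def moves6 : B6 → List B6
  | (x0, x1, x2, x3, x4, x5) =>
    [(badd x0 x1, x1, x2, x3, x4, x5), (x0, badd x1 (badd x0 x2), x2, x3, x4, x5),
      (x0, x1, badd x2 (badd x1 x3), x3, x4, x5), (x0, x1, x2, badd x3 (badd x2 x4), x4, x5),
      (x0, x1, x2, x3, badd x4 (badd x3 x5), x5), (x0, x1, x2, x3, x4, badd x5 x4)]

/-- add the unseen candidates -/
def addNew : List B6 → List B6 → List B6 → List B6 × List B6
  | [], seen, new => (seen, new)
  | c :: cs, seen, new =>
    if seen.any (fun x => Nat.beq (enc6 x) (enc6 c)) then addNew cs seen new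
    else addNew cs (c :: seen) (c :: new)

/-- the orbit, breadth first -/
def orbit6 : ℕ → List B6 → List B6 → List B6
  | 0, seen, _ => seen
  | n + 1, seen, fr =>
    let r := addNew ((fr.flatMap moves6).map norm6) seen []
    if Nat.ble 127 r.1.length then r.1 else orbit6 n r.1 r.2

/-- the three starting points -/
def start6 (c0 c2 : B4) : List B6 :=
  [((true, false), (false, false), (false, false), (false, false), (false, false), (false, false)),
    ((true, false), (false, false), (true, false), (false, false), (true, false), (false, false)),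
    (c0, (false, false), c2, (false, false), (true, false), (false, false))]

/-- no number of the list is a multiple of an earlier one -/
def apart6 : List B6 → Bool
  | [] => true
  | c :: cs =>
    (cs.all fun d => !(Nat.beq (enc6 c) (enc6 d)) && !(Nat.beq (enc6 (smul6 (false, true) c)) (enc6 d)) &&
      !(Nat.beq (enc6 (smul6 (true, true) c)) (enc6 d))) && apart6 cs

/-- the check for one starting point -/
def check6 (c0 c2 : B4) : Bool :=
  let l := (orbit6 14 ((start6 c0 c2).map norm6) ((start6 c0 c2).map norm6)).take 127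
  Nat.beq l.length 127 && apart6 l

theorem lead6_ne (c : B6) : lead6 c ≠ (false, false) := by
  obtain ⟨x0, x1, x2, x3, x4, x5⟩ := c
  simp only [lead6]
  split_ifs with h0 h1 h2 h3 h4 h5
  · rintro rfl; simp at h0
  · rintro rfl; simp at h1
  · rintro rfl; simp at h2
  · rintro rfl; simp at h3
  · rintro rfl; simp at h4
  · rintro rfl; simp at h5
  · simp

theorem check6_ff_w : check6 (false, false) (false, true) = true := by decide +kernel

theorem check6_ff_v : check6 (false, false) (true, true) = true := by decide +kernel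

theorem check6_tf_w : check6 (true, false) (false, true) = true := by decide +kernel

theorem check6_tf_v : check6 (true, false) (true, true) = true := by decide +kernel

theorem check6_ft_w : check6 (false, true) (false, true) = true := by decide +kernel

theorem check6_ft_v : check6 (false, true) (true, true) = true := by decide +kernel

theorem check6_tt_w : check6 (true, true) (false, true) = true := by decide +kernel

theorem check6_tt_v : check6 (true, true) (true, true) = true := by decide +kernel

theorem check6_ok {c0 c2 : B4} (h0 : c2 ≠ (false, false)) (h1 : c2 ≠ (true, false)) :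
    check6 c0 c2 = true := by
  obtain ⟨p, q⟩ := c2
  obtain ⟨r, s⟩ := c0
  cases p <;> cases q
  · exact absurd rfl h0
  · cases r <;> cases s
    exacts [check6_ff_w, check6_ft_w, check6_tf_w, check6_tt_w]
  · exact absurd rfl h1
  · cases r <;> cases s
    exacts [check6_ff_v, check6_ft_v, check6_tf_v, check6_tt_v]

section Geometry

variable {K : Type*} [Field K] [Fintype K] {G : Type*} [Group G] {D : Set G}

/-- a combination from coordinates -/
def cmb (w : K) (u : Fin 6 → Vec K) : B6 → Vec K
  | (x0, x1, x2, x3, x4, x5) =>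
    comb u ![bval w x0, bval w x1, bval w x2, bval w x3, bval w x4, bval w x5]

omit [Fintype K] in
theorem bval_ff (w : K) : bval w (false, false) = 0 := by simp [bval]

omit [Fintype K] in
theorem bval_tf (w : K) : bval w (true, false) = 1 := by simp [bval]

variable (hK : Fintype.card K = 4) {w : K} (hw : w ^ 2 + w + 1 = 0)

include hK hw

theorem cmb_smul (u : Fin 6 → Vec K) (t : B4) (c : B6) :
    cmb w u (smul6 t c) = bval w t • cmb w u c := by
  obtain ⟨x0, x1, x2, x3, x4, x5⟩ := c
  simp [cmb, smul6, comb, bval_mul hK hw, smul_add, smul_smul]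

theorem cmb_inj {u : Fin 6 → Vec K} (hu : IsPath u) : Function.Injective (cmb w u) := by
  have hb' := bval_bijective hK hw
  rintro ⟨x0, x1, x2, x3, x4, x5⟩ ⟨y0, y1, y2, y3, y4, y5⟩ e
  have key : ∀ k, hb (cmb w u (x0, x1, x2, x3, x4, x5)) (u k) =
      hb (cmb w u (y0, y1, y2, y3, y4, y5)) (u k) := fun k => by rw [e]
  simp only [cmb] at key
  obtain ⟨a0, a1, a2, a3, a4, a5⟩ := path_eqs hu ![bval w x0, bval w x1, bval w x2, bval w x3, bval w x4, bval w x5]
  obtain ⟨b0, b1, b2, b3, b4, b5⟩ := path_eqs hu ![bval w y0, bval w y1, bval w y2, bval w y3, bval w y4, bval w y5]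
  have k0 := a0.symm.trans ((key 0).trans b0)
  have k1 := a1.symm.trans ((key 1).trans b1)
  have k2 := a2.symm.trans ((key 2).trans b2)
  have k3 := a3.symm.trans ((key 3).trans b3)
  have k4 := a4.symm.trans ((key 4).trans b4)
  have k5 := a5.symm.trans ((key 5).trans b5)
  simp at k0 k1 k2 k3 k4 k5
  have e3 : bval w x3 = bval w y3 := by linear_combination k2 - k0
  have e2 : bval w x2 = bval w y2 := by linear_combination k3 - k5
  have e0 : bval w x0 = bval w y0 := by linear_combination k1 - e2
  have e5 : bval w x5 = bval w y5 := by linear_combination k4 - e3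
  rw [hb'.1 e0, hb'.1 k0, hb'.1 e2, hb'.1 e3, hb'.1 k5, hb'.1 e5]

theorem cmb_pair (u : Fin 6 → Vec K) (c d : B6) (hd : apart6 [c, d] = true) (t : K)
    (hu : IsPath u) (ht : t ≠ 0) : cmb w u d ≠ t • cmb w u c := by
  intro e
  obtain ⟨t', rfl⟩ := (bval_bijective hK hw).2 t
  rw [← cmb_smul hK hw u t' c] at e
  have e' := cmb_inj hK hw hu e
  subst e'
  obtain ⟨p, q⟩ := t'
  cases p <;> cases q
  · exact ht (bval_ff w)
  · simp [apart6] at hd
  · have : smul6 (true, false) c = c := by
      obtain ⟨⟨a0, b0⟩, ⟨a1, b1⟩, ⟨a2, b2⟩, ⟨a3, b3⟩, ⟨a4, b4⟩, ⟨a5, b5⟩⟩ := c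
      simp [smul6, bmul]
    rw [this] at hd
    simp [apart6] at hd
  · simp [apart6] at hd

/-- too many common neighbours -/
theorem too_many [Finite G] (h : Geo22 D K) {a b : G} (ha : a ∈ D) (hb' : b ∈ D)
    (hn : ¬ Commute a b) {π : ↥(Subgroup.centralizer ({a} : Set G)) →* Cfsg.PSU 6 K 2}
    (xs : ExtSpace h.hK D a π) {u : Fin 6 → Vec K} (hu : ∀ k, IsPt (u k))
    (hmem : ∀ k, xs.sp.pt (u k) ∈ common D a b) (hpath : IsPath u)
    (hr : xs.sp.pt (u 0 + u 2 + u 4) ∈ common D a b) {c0 c2 : K} (h20 : c2 ≠ 0) (h21 : c2 ≠ 1)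
    (hU : IsPt (c0 • u 0 + c2 • u 2 + u 4) ∧
      xs.sp.pt (c0 • u 0 + c2 • u 2 + u 4) ∈ common D a b) : False := by
  classical
  have hb4 := bval_bijective hK hw
  obtain ⟨d0, rfl⟩ := hb4.2 c0
  obtain ⟨d2, rfl⟩ := hb4.2 c2
  let Good : B6 → Prop := fun c => IsPt (cmb w u c) ∧ xs.sp.pt (cmb w u c) ∈ common D a b
  have gsmul : ∀ c t, bval w t ≠ 0 → Good c → Good (smul6 t c) := by
    intro c t ht hc
    obtain ⟨h1, h2⟩ := xs.sp.smul_pt ht hc.1
    show IsPt _ ∧ _
    rw [cmb_smul hK hw, h2]
    exact ⟨h1, hc.2⟩
  have gnorm : ∀ c, Good c → Good (norm6 c) := by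
    intro c hc
    refine gsmul c _ ?_ hc
    rw [bval_mul hK hw]
    refine mul_ne_zero ?_ ?_ <;>
    · intro e
      exact lead6_ne c (hb4.1 (e.trans (bval_ff w).symm))
  have gmove : ∀ c, Good c → ∀ d ∈ moves6 c, Good d := by
    intro c hc
    have step : ∀ k, Good c → IsPt (cmb w u c + hb (cmb w u c) (u k) • u k) ∧
        xs.sp.pt (cmb w u c + hb (cmb w u c) (u k) • u k) ∈ common D a b := by
      intro k hc
      have hp := isPt_third hK (hu k) hc.1
      refine ⟨hp, ?_⟩
      rw [← xs.sp.third (hu k) hc.1]
      have hg := hmem k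
      have := h.core.tt.common_conj (xs.sp.pt (u k)) hc.2
      rwa [mul_inv_eq_iff_eq_mul.mpr hg.1.2.2.symm.eq, mul_inv_eq_iff_eq_mul.mpr hg.2.2.2.symm.eq,
        h.core.tt.inv_eq hg.1.1] at this
    obtain ⟨x0, x1, x2, x3, x4, x5⟩ := c
    obtain ⟨a0, a1, a2, a3, a4, a5⟩ := path_eqs hpath
      ![bval w x0, bval w x1, bval w x2, bval w x3, bval w x4, bval w x5]
    simp only [Matrix.cons_val] at a0 a1 a2 a3 a4 a5
    have s0 := step 0 hc
    have s1 := step 1 hc
    have s2 := step 2 hc
    have s3 := step 3 hc
    have s4 := step 4 hc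
    have s5 := step 5 hc
    simp only [cmb] at s0 s1 s2 s3 s4 s5
    rw [a0] at s0
    rw [a1] at s1
    rw [a2] at s2
    rw [a3] at s3
    rw [a4] at s4
    rw [a5] at s5
    intro d hd
    simp only [moves6, List.mem_cons, List.not_mem_nil, or_false] at hd
    rcases hd with rfl | rfl | rfl | rfl | rfl | rfl
    · convert s0 using 3 <;> simp [cmb, comb, bval_add hK, add_smul] <;> abel
    · convert s1 using 3 <;> simp [cmb, comb, bval_add hK, add_smul] <;> abel
    · convert s2 using 3 <;> simp [cmb, comb, bval_add hK, add_smul] <;> abel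
    · convert s3 using 3 <;> simp [cmb, comb, bval_add hK, add_smul] <;> abel
    · convert s4 using 3 <;> simp [cmb, comb, bval_add hK, add_smul] <;> abel
    · convert s5 using 3 <;> simp [cmb, comb, bval_add hK, add_smul] <;> abel
  have gadd : ∀ cs seen new : List B6, (∀ c ∈ cs, Good c) → (∀ c ∈ seen, Good c) →
      (∀ c ∈ new, Good c) → (∀ c ∈ (addNew cs seen new).1, Good c) ∧
        (∀ c ∈ (addNew cs seen new).2, Good c) := by
    intro cs
    induction cs with
    | nil => intro seen new _ h2 h3; exact ⟨h2, h3⟩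
    | cons c cs ih =>
      intro seen new h1 h2 h3
      simp only [List.forall_mem_cons] at h1
      simp only [addNew]
      split
      · exact ih seen new h1.2 h2 h3
      · exact ih _ _ h1.2 (List.forall_mem_cons.mpr ⟨h1.1, h2⟩) (List.forall_mem_cons.mpr ⟨h1.1, h3⟩)
  have gorb : ∀ n seen fr, (∀ c ∈ seen, Good c) → (∀ c ∈ fr, Good c) →
      ∀ c ∈ orbit6 n seen fr, Good c := by
    intro n
    induction n with
    | zero => intro seen fr h1 _; exact h1
    | succ n ih =>
      intro seen fr h1 h2
      have h3 : ∀ c ∈ (fr.flatMap moves6).map norm6, Good c := by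
        intro c hc
        obtain ⟨d, hd, rfl⟩ := List.mem_map.mp hc
        obtain ⟨e, he, hd'⟩ := List.mem_flatMap.mp hd
        exact gnorm d (gmove e (h2 e he) d hd')
      obtain ⟨g1, g2⟩ := gadd _ seen [] h3 h1 (by simp)
      simp only [orbit6]
      split
      · exact g1
      · exact ih _ _ g1 g2
  have gstart : ∀ c ∈ start6 d0 d2, Good c := by
    simp only [start6, List.forall_mem_cons]
    refine ⟨?_, ?_, ?_, by simp⟩
    · have e : cmb w u ((true, false), (false, false), (false, false), (false, false), (false, false),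
          (false, false)) = u 0 := by simp [cmb, comb, bval_ff, bval_tf]
      show IsPt _ ∧ _
      rw [e]; exact ⟨hu 0, hmem 0⟩
    · have e : cmb w u ((true, false), (false, false), (true, false), (false, false), (true, false),
          (false, false)) = u 0 + u 2 + u 4 := by simp [cmb, comb, bval_ff, bval_tf]
      show IsPt _ ∧ _
      rw [e]; exact ⟨(path_radical hK hpath).1, hr⟩
    · have e : cmb w u (d0, (false, false), d2, (false, false), (true, false), (false, false)) =
          bval w d0 • u 0 + bval w d2 • u 2 + u 4 := by simp [cmb, comb, bval_ff, bval_tf]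
      show IsPt _ ∧ _
      rw [e]; exact hU
  have hck : check6 d0 d2 = true :=
    check6_ok (fun e => h20 (by rw [e]; exact bval_ff w)) (fun e => h21 (by rw [e]; exact bval_tf w))
  simp only [check6, Bool.and_eq_true, Nat.beq_eq] at hck
  set l := (orbit6 14 ((start6 d0 d2).map norm6) ((start6 d0 d2).map norm6)).take 127
  have gs : ∀ c ∈ (start6 d0 d2).map norm6, Good c := fun c hc => by
    obtain ⟨d, hd, rfl⟩ := List.mem_map.mp hc
    exact gnorm d (gstart d hd)
  have hgood : ∀ c ∈ l, Good c := fun c hc =>
    gorb _ _ _ gs gs c (List.mem_of_mem_take hc)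
  have hpair : l.Pairwise fun c d => xs.sp.pt (cmb w u c) ≠ xs.sp.pt (cmb w u d) := by
    revert hgood
    generalize hl : l = L at hck ⊢
    clear hl
    obtain ⟨-, hap⟩ := hck
    intro hgood
    induction L with
    | nil => exact List.Pairwise.nil
    | cons c cs ih =>
      simp only [apart6, Bool.and_eq_true, List.all_eq_true] at hap
      refine List.Pairwise.cons (fun d hd e => ?_)
        (ih hap.2 fun x hx => hgood x (List.mem_cons_of_mem _ hx))
      obtain ⟨t, ht⟩ := (xs.sp.same (hgood c List.mem_cons_self).1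
        (hgood d (List.mem_cons_of_mem _ hd)).1).mp e
      refine cmb_pair hK hw u c d ?_ t hpath (fun q => ?_) ht
      · have := hap.1 d hd
        simp only [apart6, List.all_cons, List.all_nil, Bool.and_true]
        simpa using this
      · rw [q, zero_smul] at ht
        exact (hgood d (List.mem_cons_of_mem _ hd)).1.1 ht
  have hnodup : (l.map fun c => xs.sp.pt (cmb w u c)).Nodup := List.pairwise_map.mpr hpair
  have hsub : ((l.map fun c => xs.sp.pt (cmb w u c)).toFinset : Set G) ⊆ common D a b := by
    intro y hy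
    obtain ⟨c, hc, rfl⟩ := List.mem_map.mp (List.mem_toFinset.mp hy)
    exact (hgood c hc).2
  have hle := Set.ncard_le_ncard hsub (Set.toFinite _)
  rw [Set.ncard_coe_finset, List.toFinset_card_of_nodup hnodup, List.length_map, hck.1,
    h.card_common ha hb' hn] at hle
  omega

end Geometry

end Cfsg.Agent.H70.FiTwentyTwo
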