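import Cfsg.Agent.H70.FiTwentyTwo.Five

/-!
The common neighbours of two members that do not commute contain a path of six members.
-/

set_option autoImplicit false

namespace Cfsg.Agent.H70.FiTwentyTwo

open Cfsg.Agent.H93

/-- the rows of the adjacency table of the forty five points -/
def qRow (i : ℕ) : ℕ := ([0x111c47118000, 0x6298a628000, 0x8ca328c8000, 0x124248497000, 0x49490927000, 0x92125247000, 0x1c00e0070e00, 0x7700380e00, 0x3801dc00e00, 0x491244901c0, 0x922489201c0, 0x1244912401c0, 0x701c070038, 0x380e0380038, 0x1c0701c00038, 0x1ff0007, 0x44029109249, 0x81050609452, 0x102084889864, 0x2114084a28c, 0xa28101a491, 0x1442042a8a2, 0x10820422c30a, 0x504080cc514, 0xa011011c921, 0x7fc000007, 0xa442441321, 0x1418281150a, 0x21223021914, 0x50212212264, 0xa04060a2449, 0x10810a142852, 0x8108b0842a2, 0x10203250448c, 0x44046a04891, 0x1ff000000007, 0x1109100a1291, 0x60a041414a2, 0x88c0821188c, 0x84884502314, 0x101828a02521, 0x4285108290a, 0x22c20814252,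 0xc941024464, 0x11a80444849] : List ℕ).getD i 0

set_option maxRecDepth 8000 in
theorem qRow_ok : ∀ i j : Fin 45, qAdj i j = (qRow i.val).testBit j.val := by decide +kernel

/-- the points of a row pair, as a list -/
def qBoth (i j : ℕ) : List (Fin 45) :=
  (List.finRange 45).filter fun k => (qRow i).testBit k.val && (qRow j).testBit k.val

set_option maxRecDepth 8000 in
theorem qBoth_ok : ((List.range 45).all fun i => (List.range 45).all fun j =>
    Nat.beq i j || (qRow i).testBit j ||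
      (Nat.beq (qBoth i j).length 3 && (qBoth i j).all fun k => (qBoth i j).all fun l =>
        !(qRow k.val).testBit l.val)) = true := by decide +kernel

theorem qAdj_far_three (i j : Fin 45) (hne : i ≠ j) (hf : qAdj i j = false) :
    (Finset.univ.filter fun k => qAdj i k = true ∧ qAdj j k = true).card = 3 ∧
      ∀ k l : Fin 45, qAdj i k = true → qAdj j k = true → qAdj i l = true → qAdj j l = true →
        qAdj k l = false := by
  have hk := List.all_eq_true.mp (List.all_eq_true.mp qBoth_ok i.val (List.mem_range.mpr i.isLt))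
    j.val (List.mem_range.mpr j.isLt)
  simp only [Bool.or_eq_true, Bool.and_eq_true, List.all_eq_true, Nat.beq_eq] at hk
  rw [qRow_ok] at hf
  rcases hk with (hk | hk) | ⟨h3, hp⟩
  · exact absurd (Fin.ext hk) hne
  · rw [hf] at hk; exact Bool.noConfusion hk
  refine ⟨?_, fun k l a b c d => ?_⟩
  · rw [show (Finset.univ.filter fun k => qAdj i k = true ∧ qAdj j k = true) =
      (qBoth i.val j.val).toFinset by ext k; simp [qBoth, qRow_ok],
      List.toFinset_card_of_nodup (l := qBoth i.val j.val) ((List.nodup_finRange 45).filter _), h3]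
  · have := hp k (by simp [qBoth, ← qRow_ok, a, b]) l (by simp [qBoth, ← qRow_ok, c, d])
    simpa [qRow_ok] using this

theorem forty_far {G : Type*} [Group G] {T : Set G} (h : Forty T) {p q : G} (hp : p ∈ T) (hq : q ∈ T)
    (hn : ¬ Commute p q) :
    {y ∈ T | (y ≠ p ∧ Commute p y) ∧ (y ≠ q ∧ Commute q y)}.ncard = 3 ∧
      ∀ y ∈ {y ∈ T | (y ≠ p ∧ Commute p y) ∧ (y ≠ q ∧ Commute q y)},
      ∀ z ∈ {y ∈ T | (y ≠ p ∧ Commute p y) ∧ (y ≠ q ∧ Commute q y)}, y ≠ z → ¬ Commute y z := by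
  obtain ⟨e, he, rfl, ha⟩ := h
  obtain ⟨i, rfl⟩ := hp
  obtain ⟨j, rfl⟩ := hq
  have hij : i ≠ j := fun q => hn (q ▸ Commute.refl _)
  have hfalse : qAdj i j = false := by
    by_contra q
    exact hn ((ha i j).mpr (by simpa using q)).2
  obtain ⟨h3, hp2⟩ := qAdj_far_three i j hij hfalse
  have adj : ∀ {l k}, (e k ≠ e l ∧ Commute (e l) (e k)) ↔ qAdj l k = true := fun {l k} => by
    rw [← ha l k]
    exact and_congr_left fun _ => ⟨fun a b => a (b ▸ rfl), fun a b => a (he b).symm⟩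
  have : {y ∈ Set.range e | (y ≠ e i ∧ Commute (e i) y) ∧ (y ≠ e j ∧ Commute (e j) y)} =
      e '' ↑(Finset.univ.filter fun k => qAdj i k = true ∧ qAdj j k = true) := by
    ext y
    constructor
    · rintro ⟨⟨k, rfl⟩, a1, a2⟩
      exact ⟨k, by simpa using ⟨adj.mp a1, adj.mp a2⟩, rfl⟩
    · rintro ⟨k, hk, rfl⟩
      simp at hk
      exact ⟨⟨k, rfl⟩, adj.mpr hk.1, adj.mpr hk.2⟩
  refine ⟨by rw [this, Set.ncard_image_of_injective _ he, Set.ncard_coe_finset, h3], ?_⟩
  rintro _ ⟨⟨k, rfl⟩, a1, a2⟩ _ ⟨⟨l, rfl⟩, b1, b2⟩ hne hc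
  have := hp2 k l (adj.mp a1) (adj.mp a2) (adj.mp b1) (adj.mp b2)
  rw [adj.mp ⟨Ne.symm hne, hc⟩] at this
  exact Bool.noConfusion this

variable {K : Type*} [Field K] [Fintype K] {G : Type*} [Group G] {D : Set G} [Finite G]
  (h : Geo22 D K) {a b : G} (ha : a ∈ D) (hb' : b ∈ D) (hn : ¬ Commute a b)

include h ha hb' hn

/-- the common neighbours are closed off: a third member of a line is not one of them -/
theorem line_excl {d i z : G} (hd : d ∈ common D a b) (hi : i ∈ common D a b)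
    (hz : z ∈ common D a b) (cdi : Commute d i) (czd : Commute z d) (czi : Commute z i)
    (hzd : z ≠ d) (hzi : z ≠ i) (hdi : d ≠ i)
    (hall : ∀ v ∈ nb D a, Commute v d → Commute v i → Commute v z) : False := by
  have hK := h.hK
  obtain ⟨π, -, xs, A, B, hA, hB, pA, pB, hBA, hmem⟩ := h.frame_at ha hb' hn hd
  obtain ⟨hnd, h4, hW⟩ := pair_perp hK hA hB hBA
  obtain ⟨Z, hZ, pZ⟩ := xs.sp.surj z ⟨hz.1.1, hzd, czd.symm⟩
  obtain ⟨I, hI, pI⟩ := xs.sp.surj i ⟨hi.1.1, hdi.symm, cdi⟩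
  have hs : ¬ SamePt Z I := fun q => hzi (by rw [← pZ, ← pI]; exact (xs.sp.same hZ hI).mpr q)
  have inW : ∀ {v}, IsPt v → xs.sp.pt v ∈ common D a b →
      v ∈ Cfsg.Agent.Unitary.perp 2 (Submodule.span K ({A, B} : Set (Vec K)) : Set (Vec K)) :=
    fun hv hm => (hW _).mpr ((hmem _ hv).mp ⟨hm, xs.sp.mem hv⟩)
  obtain ⟨v, hvW, hvv, hvZ, hvI⟩ := Cfsg.Agent.Unitary.exists_iso_pair (card_eq_sq hK) hnd
    (le_of_le_of_eq (by norm_num) h4.symm) (inW hZ (pZ.symm ▸ hz)) (inW hI (pI.symm ▸ hi))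
    hZ.2 hI.2 (indep_pair hZ.1 hs) (a := (1 : K)) (b := 0) one_ne_zero
  have hvp : IsPt v := ⟨fun q => one_ne_zero (α := K) (by
    rw [← show hb v Z = 1 from hvZ, q, hb_zero_left]), hvv⟩
  have hm := xs.sp.mem hvp
  have cva := comm_of_hb h xs hvp hA rfl pA ((hW v).mp hvW).1
  have cvi := comm_of_hb h xs hvp hI rfl pI hvI
  have nvz := not_comm_of_hb h xs hvp hZ rfl pZ (by
    rw [show hb v Z = 1 from hvZ]; exact one_ne_zero)
  exact nvz (hall _ ⟨hm.1, fun q => nvz (by rw [q]; exact hz.1.2.2), cva.symm⟩ hm.2.2.symm cvi)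

/-- two far common neighbours with at least seven further common neighbours -/
theorem exists_rich {g : G} (hg : g ∈ common D a b) :
    ∃ y ∈ common D a b, ¬ Commute g y ∧ 7 ≤ {t ∈ common D a b ∩ nb D g | Commute t y}.ncard := by
  classical
  by_contra hall
  simp only [not_exists, not_and, not_le] at hall
  have := Fintype.ofFinite G
  set T := (common D a b ∩ nb D g).toFinset with hT
  set F := {y | y ∈ common D a b ∧ ¬ Commute g y}.toFinset with hF
  have hTc : T.card = 45 := by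
    rw [hT, ← Set.ncard_eq_toFinset_card', (h.forty ha hb' hn hg).card]
  have hFc : F.card = 80 := by
    have e1 := h.card_common ha hb' hn
    have e2 : common D a b =
        insert g ((common D a b ∩ nb D g) ∪ {y | y ∈ common D a b ∧ ¬ Commute g y}) := by
      ext y
      constructor
      · intro hy
        by_cases e : y = g
        · exact Or.inl e
        by_cases c : Commute g y
        · exact Or.inr (Or.inl ⟨hy, hy.1.1, e, c⟩)
        · exact Or.inr (Or.inr ⟨hy, c⟩)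
      · rintro (rfl | hy | hy)
        exacts [hg, hy.1, hy.1]
    rw [e2, Set.ncard_insert_of_notMem (by
      rintro (q | q)
      · exact q.2.2.1 rfl
      · exact q.2 (Commute.refl _)) (Set.toFinite _),
      Set.ncard_union_eq (Set.disjoint_left.mpr fun y q q' => q'.2 q.2.2.2) (Set.toFinite _)
        (Set.toFinite _), (h.forty ha hb' hn hg).card] at e1
    rw [hF, ← Set.ncard_eq_toFinset_card']
    omega
  have hrow : ∀ t ∈ T, (F.filter fun y => Commute t y).card = 32 := by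
    intro t ht
    rw [hT, Set.mem_toFinset] at ht
    have ht0 := h.forty ha hb' hn ht.1
    have hgt : g ∈ common D a b ∩ nb D t := ⟨hg, nb_symm hg.1.1 ht.2⟩
    have e0 : (F.filter fun y => Commute t y) =
        ((common D a b ∩ nb D t) \
          insert g {y ∈ common D a b ∩ nb D t | y ≠ g ∧ Commute g y}).toFinset := by
      ext y
      simp only [hF, Finset.mem_filter, Set.mem_toFinset, Set.mem_sdiff, Set.mem_insert_iff,
        Set.mem_setOf_eq]
      constructor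
      · rintro ⟨⟨hy, hny⟩, hty⟩
        refine ⟨⟨hy, hy.1.1, fun e => hny (e ▸ ht.2.2.2), hty⟩, ?_⟩
        rintro (rfl | q)
        · exact hny (Commute.refl _)
        · exact hny q.2.2
      · rintro ⟨hy, hny⟩
        exact ⟨⟨hy.1, fun c => hny (by
          by_cases e : y = g
          · exact Or.inl e
          · exact Or.inr ⟨hy, e, c⟩)⟩, hy.2.2.2⟩
    rw [e0, ← Set.ncard_eq_toFinset_card']
    have hs : insert g {y ∈ common D a b ∩ nb D t | y ≠ g ∧ Commute g y} ⊆ common D a b ∩ nb D t :=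
      Set.insert_subset hgt fun y q => q.1
    rw [Set.ncard_sdiff hs (Set.toFinite _), ht0.card,
      Set.ncard_insert_of_notMem (fun q => q.2.1 rfl) (Set.toFinite _), ht0.deg hgt]
  have hcol : ∀ y ∈ F, (T.filter fun t => Commute t y).card ≤ 6 := by
    intro y hy
    rw [hF, Set.mem_toFinset] at hy
    have := hall y hy.1 hy.2
    have e : (T.filter fun t => Commute t y) =
        {t ∈ common D a b ∩ nb D g | Commute t y}.toFinset := by
      ext t
      simp [hT]
      tauto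
    rw [e, ← Set.ncard_eq_toFinset_card']
    omega
  have hsum := Finset.sum_card_bipartiteAbove_eq_sum_card_bipartiteBelow (s := T) (t := F)
    (fun t y => Commute t y)
  simp only [Finset.bipartiteAbove, Finset.bipartiteBelow] at hsum
  rw [Finset.sum_congr rfl hrow, Finset.sum_const, hTc, smul_eq_mul] at hsum
  have := Finset.sum_le_sum hcol
  rw [Finset.sum_const, hFc, smul_eq_mul] at this
  omega

/-- a short path among the members commuting with two far ones -/
theorem exists_three {g y : G} (hg : g ∈ common D a b) (hy : y ∈ common D a b) (hgy : ¬ Commute g y)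
    (h7 : 7 ≤ {t ∈ common D a b ∩ nb D g | Commute t y}.ncard) :
    ∃ d m i, d ∈ common D a b ∩ nb D g ∧ m ∈ common D a b ∩ nb D g ∧ i ∈ common D a b ∩ nb D g ∧
      Commute d y ∧ Commute m y ∧ Commute i y ∧ d ≠ i ∧ Commute d i ∧ ¬ Commute d m ∧
      ¬ Commute m i := by
  set S := {t ∈ common D a b ∩ nb D g | Commute t y} with hS
  by_contra hno
  simp only [not_exists, not_and] at hno
  have trans : ∀ d m i, d ∈ S → m ∈ S → i ∈ S → ¬ Commute d m → ¬ Commute m i → d ≠ i →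
      ¬ Commute d i :=
    fun d m i hd hm hi n1 n2 hne c => hno d m i hd.1 hm.1 hi.1 hd.2 hm.2 hi.2 hne c n1 n2
  have hP : ∀ t ∈ S, {s ∈ S | s ≠ t ∧ Commute t s}.ncard = 3 ∧
      ∀ p ∈ {s ∈ S | s ≠ t ∧ Commute t s}, ∀ q ∈ {s ∈ S | s ≠ t ∧ Commute t s}, p ≠ q →
        ¬ Commute p q := by
    intro t ht
    have hgt : g ∈ common D a b ∩ nb D t := ⟨hg, nb_symm hg.1.1 ht.1.2⟩
    have hyt : y ∈ common D a b ∩ nb D t :=
      ⟨hy, hy.1.1, fun e => hgy (by rw [e]; exact ht.1.2.2.2), ht.2⟩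
    have hf := forty_far (h.forty ha hb' hn ht.1.1) hgt hyt hgy
    have e : {s ∈ S | s ≠ t ∧ Commute t s} =
        {s ∈ common D a b ∩ nb D t | (s ≠ g ∧ Commute g s) ∧ (s ≠ y ∧ Commute y s)} := by
      ext s
      constructor
      · rintro ⟨⟨⟨hs, hsg⟩, hsy⟩, hst, hts⟩
        exact ⟨⟨hs, hs.1.1, hst, hts⟩, ⟨hsg.2.1, hsg.2.2⟩,
          fun q => hgy (by rw [← q]; exact hsg.2.2), hsy.symm⟩
      · rintro ⟨⟨hs, hst⟩, ⟨hsg, cgs⟩, -, cys⟩
        exact ⟨⟨⟨hs, hs.1.1, hsg, cgs⟩, cys.symm⟩, hst.2.1, hst.2.2⟩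
    rw [e]; exact hf
  obtain ⟨m, hm⟩ : S.Nonempty := Set.nonempty_of_ncard_ne_zero (by omega)
  obtain ⟨p, hp⟩ : {s ∈ S | s ≠ m ∧ Commute m s}.Nonempty :=
    Set.nonempty_of_ncard_ne_zero (by rw [(hP m hm).1]; norm_num)
  have hsub : S ⊆ {s ∈ S | s ≠ m ∧ Commute m s} ∪ {s ∈ S | s ≠ p ∧ Commute p s} := by
    intro s hs
    by_cases hsm : s = m
    · exact Or.inr ⟨hs, hsm ▸ hp.2.1.symm, hsm ▸ hp.2.2.symm⟩
    by_cases hc : Commute m s
    · exact Or.inl ⟨hs, hsm, hc⟩
    refine Or.inr ⟨hs, fun q => hc (q ▸ hp.2.2), ?_⟩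
    by_contra hps
    exact trans m s p hm hs hp.1 hc (fun q => hps q.symm) hp.2.1.symm hp.2.2
  have hle := (Set.ncard_le_ncard hsub (Set.toFinite _)).trans (Set.ncard_union_le _ _)
  rw [(hP m hm).1, (hP p hp.1).1] at hle
  omega

/-- a path of six common neighbours -/
theorem exists_path : ∃ x : Fin 6 → G, (∀ k, x k ∈ common D a b) ∧ PathPat x := by
  have hK := h.hK
  obtain ⟨g, hg⟩ := h.exists_common ha hb' hn
  obtain ⟨y, hy, hgy, h7⟩ := exists_rich h ha hb' hn hg
  obtain ⟨d, m, i, hd, hm, hi, cdy, cmy, ciy, hdi, cdi, ndm, nmi⟩ :=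
    exists_three h ha hb' hn hg hy hgy h7
  obtain ⟨π, -, xs, A, B, hA, hB, pA, pB, hBA, hmem⟩ := h.frame_at ha hb' hn hg
  obtain ⟨vd, hvd, pd⟩ := xs.sp.surj d hd.2
  obtain ⟨vm, hvm, pm, emd⟩ := h.coords xs hd.2 hm.2 hvd pd ndm
  obtain ⟨vi, hvi, pi', eim⟩ := h.coords xs hm.2 hi.2 hvm pm nmi
  obtain ⟨dA, dB⟩ := (hmem vd hvd).mp (pd.symm ▸ hd)
  obtain ⟨mA, mB⟩ := (hmem vm hvm).mp (pm.symm ▸ hm)
  obtain ⟨iA, iB⟩ := (hmem vi hvi).mp (pi'.symm ▸ hi)
  have edm : hb vd vm = 1 := by rw [hb_conj hK vm vd, emd, one_pow]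
  have emi : hb vm vi = 1 := by rw [hb_conj hK vi vm, eim, one_pow]
  have edi := hb_of_comm h xs hvd hvi pd pi' cdi
  have eid := (hb_eq_zero_comm hK).mp edi
  have hAB : hb A B = 1 := by rw [hb_conj hK B A, hBA, one_pow]
  have h11 : (1 : K) + 1 = 0 := add_self_zero hK 1
  have hr0 : vd + vi ≠ 0 := fun q => hdi (by
    rw [← pd, ← pi', vec_eq_of_add hK q])
  have hrm : hb (vd + vi) vm = 0 := by rw [hb_add_left, edm, eim]; exact h11
  -- a vector with the wanted products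
  have hli : LinearIndependent K ![A, B, vd, vm, vi] := by
    rw [Fintype.linearIndependent_iff]
    intro c hc
    have key : ∀ v, ∑ i, c i * hb (![A, B, vd, vm, vi] i) v = 0 := fun v => by
      rw [← sum_hb_left, hc, hb_zero_left]
    have k0 := key B
    have k1 := key A
    have k2 := key vd
    have k3 := key vm
    simp [Fin.sum_univ_five, hA.2, hB.2, hAB, hBA, dA, dB, mA, mB, iA, iB, hvd.2, hvm.2, emd, edm, eim, eid,
      (hb_eq_zero_comm hK).mp dA, (hb_eq_zero_comm hK).mp mA, (hb_eq_zero_comm hK).mp iA,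
      (hb_eq_zero_comm hK).mp dB, (hb_eq_zero_comm hK).mp mB, (hb_eq_zero_comm hK).mp iB] at k0 k1 k2 k3
    have k4 : c 2 = c 4 := (add_eq_zero_iff_eq' hK).mp k3
    simp [Fin.sum_univ_five, k0, k1, k2, ← k4, ← smul_add] at hc
    intro j
    fin_cases j
    exacts [k0, k1, hc.resolve_right hr0, k2, k4 ▸ hc.resolve_right hr0]
  obtain ⟨X, hX⟩ := evalMap_surjective hK hli ![0, 0, 1, 0, 0]
  have x0 : hb X A = 0 := congrFun hX 0
  have x1 : hb X B = 0 := congrFun hX 1
  have x2 : hb X vd = 1 := congrFun hX 2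
  have x3 : hb X vm = 0 := congrFun hX 3
  have x4 : hb X vi = 0 := congrFun hX 4
  obtain ⟨t, ht⟩ := exists_trace hK (hb_self_cases hK X)
  have hrr : hb (vd + vi) (vd + vi) = 0 := by
    simp [hb_add_left, hb_add_right hK, hvd.2, hvi.2, edi, eid]
  have hXr : hb X (vd + vi) = 1 := by rw [hb_add_right hK, x2, x4, add_zero]
  have hrX : hb (vd + vi) X = 1 := by rw [hb_conj hK X (vd + vi), hXr, one_pow]
  set R := vd + vi with hR
  have rA : hb R A = 0 := by rw [hR, hb_add_left, dA, iA, add_zero]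
  have rB : hb R B = 0 := by rw [hR, hb_add_left, dB, iB, add_zero]
  have rd : hb R vd = 0 := by rw [hR, hb_add_left, hvd.2, eid, add_zero]
  have ri : hb R vi = 0 := by rw [hR, hb_add_left, edi, hvi.2, add_zero]
  set E := X + t • R with hE
  have eA : hb E A = 0 := by rw [hE, hb_add_left, hb_smul_left, x0, rA, mul_zero, add_zero]
  have eB : hb E B = 0 := by rw [hE, hb_add_left, hb_smul_left, x1, rB, mul_zero, add_zero]
  have ed : hb E vd = 1 := by rw [hE, hb_add_left, hb_smul_left, x2, rd, mul_zero, add_zero]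
  have em : hb E vm = 0 := by rw [hE, hb_add_left, hb_smul_left, x3, hrm, mul_zero, add_zero]
  have ei : hb E vi = 0 := by rw [hE, hb_add_left, hb_smul_left, x4, ri, mul_zero, add_zero]
  have eR : hb R E = 1 := by rw [hE, hb_add_right hK, hb_smul_right, hrX, hrr, mul_zero, add_zero]
  have eRp : hb E R = 1 := by rw [hb_conj hK R E, eR, one_pow]
  have eE : hb E E = 0 := by
    rw [hE]
    simp [hb_add_left, hb_add_right hK, hb_smul_left, hb_smul_right, hXr, hrX, hrr]
    have : hb X X + (t + t ^ 2) = 0 := by rw [ht]; exact add_self_zero hK _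
    linear_combination this
  have hEp : IsPt E := ⟨fun q => one_ne_zero (α := K) (by rw [← ed, q, hb_zero_left]), eE⟩
  have hRp : IsPt R := ⟨hr0, hrr⟩
  have hE2 : IsPt (E + R) := ⟨fun q => one_ne_zero (α := K) (by
    rw [← show hb (E + R) vd = 1 by rw [hb_add_left, ed, rd, add_zero], q, hb_zero_left]), by
    simp [hb_add_left, hb_add_right hK, eE, eR, eRp, hrr, h11]⟩
  -- one of the two candidates completes the path
  have good : ∀ {v}, IsPt v → hb v A = 0 → hb v B = 0 → hb v vd = 1 → hb v vm = 0 → hb v vi = 0 →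
      ¬ Commute (xs.sp.pt v) y → ∃ x : Fin 6 → G, (∀ k, x k ∈ common D a b) ∧ PathPat x := by
    intro v hv va vb vd1 vm0 vi0 nvy
    have nd := not_comm_of_hb h xs hv hvd rfl pd (by rw [vd1]; exact one_ne_zero)
    have hmv := xs.sp.mem hv
    have hvc : xs.sp.pt v ∈ common D a b :=
      ⟨⟨hmv.1, fun q => nd (q ▸ hd.1.1.2.2), (comm_of_hb h xs hv hA rfl pA va).symm⟩,
        ⟨hmv.1, fun q => nd (q ▸ hd.1.2.2.2), (comm_of_hb h xs hv hB rfl pB vb).symm⟩⟩
    refine ⟨![g, y, xs.sp.pt v, d, m, i], fun k => ?_, fun j k => ?_⟩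
    · fin_cases k
      exacts [hg, hy, hvc, hd.1, hm.1, hi.1]
    · have c02 := hmv.2.2
      have c03 := hd.2.2.2
      have c04 := hm.2.2.2
      have c05 := hi.2.2.2
      have c24 := comm_of_hb h xs hv hvm rfl pm vm0
      have c25 := comm_of_hb h xs hv hvi rfl pi' vi0
      have n10 : ¬ Commute y g := fun q => hgy q.symm
      have n21 : ¬ Commute y (xs.sp.pt v) := fun q => nvy q.symm
      have n32 : ¬ Commute d (xs.sp.pt v) := fun q => nd q.symm
      have n43 : ¬ Commute m d := fun q => ndm q.symm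
      have n54 : ¬ Commute i m := fun q => nmi q.symm
      fin_cases j <;> fin_cases k <;>
        simp [Commute.refl, c02, c02.symm, c03, c03.symm, c04, c04.symm, c05, c05.symm, c24,
          c24.symm, c25, c25.symm, cdy, cdy.symm, cmy, cmy.symm, ciy, ciy.symm, cdi, cdi.symm,
          hgy, n10, nvy, n21, nd, n32, ndm, n43, nmi, n54]
  by_cases c1 : Commute (xs.sp.pt E) y
  swap
  · exact good hEp eA eB ed em ei c1
  by_cases c2 : Commute (xs.sp.pt (E + R)) y
  swap
  · exact good hE2 (by rw [hb_add_left, eA, rA, add_zero]) (by rw [hb_add_left, eB, rB, add_zero])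
      (by rw [hb_add_left, ed, rd, add_zero]) (by rw [hb_add_left, em, hrm, add_zero])
      (by rw [hb_add_left, ei, ri, add_zero]) c2
  exfalso
  have third := xs.sp.third hEp hE2
  have hb1 : hb (E + R) E = 1 := by rw [hb_add_left, eE, eR, zero_add]
  rw [hb1, one_smul, show E + R + E = R by rw [add_comm (E + R) E, ← add_assoc, vec_add_self hK E, zero_add]] at third
  have cRy : Commute (xs.sp.pt R) y := third ▸ (c1.mul_left c2).mul_left c1
  have hRm := xs.sp.mem hRp
  have cRa := comm_of_hb h xs hRp hA rfl pA rA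
  have cRb := comm_of_hb h xs hRp hB rfl pB rB
  have hRc : xs.sp.pt R ∈ common D a b :=
    ⟨⟨hRm.1, fun q => hn (by rw [← q]; exact cRb), cRa.symm⟩,
      ⟨hRm.1, fun q => hn (by rw [← q]; exact cRa.symm), cRb.symm⟩⟩
  have ne_d : xs.sp.pt R ≠ d := fun q => ndm (by
    rw [← q]; exact comm_of_hb h xs hRp hvm rfl pm hrm)
  have ne_i : xs.sp.pt R ≠ i := fun q => nmi (by
    rw [← q]; exact (comm_of_hb h xs hRp hvm rfl pm hrm).symm)
  refine line_excl h ha hb' hn hd.1 hi.1 hRc cdi (comm_of_hb h xs hRp hvd rfl pd rd)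
    (comm_of_hb h xs hRp hvi rfl pi' ri) ne_d ne_i hdi fun v hv cvd cvi => ?_
  -- in the residue at `a`
  have hEm := xs.sp.mem hEp
  have nEd := not_comm_of_hb h xs hEp hvd rfl pd (by rw [ed]; exact one_ne_zero)
  have hEa : xs.sp.pt E ∈ nb D a :=
    ⟨hEm.1, fun q => nEd (q ▸ hd.1.1.2.2), (comm_of_hb h xs hEp hA rfl pA eA).symm⟩
  have cEm := comm_of_hb h xs hEp hvm rfl pm em
  have cEi := comm_of_hb h xs hEp hvi rfl pi' ei
  have cRm := comm_of_hb h xs hRp hvm rfl pm hrm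
  obtain ⟨σ, -, ⟨xa⟩⟩ := h.exists_space ha
  obtain ⟨G0, hG0, pG0⟩ := xa.sp.surj g hg.1
  obtain ⟨Y, hY, pY, eYG⟩ := h.coords xa hg.1 hy.1 hG0 pG0 hgy
  obtain ⟨Ev, hEv, pEv⟩ := xa.sp.surj _ hEa
  obtain ⟨Dv, hDv, pDv, eDE⟩ := h.coords xa hEa hd.1.1 hEv pEv nEd
  obtain ⟨M, hM, pM, eMD⟩ := h.coords xa hd.1.1 hm.1.1 hDv pDv ndm
  obtain ⟨I, hI, pI, eIM⟩ := h.coords xa hm.1.1 hi.1.1 hM pM nmi
  obtain ⟨Rv, hRv, pRv⟩ := xa.sp.surj _ hRc.1
  obtain ⟨V, hV, pV⟩ := xa.sp.surj v hv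
  let u : Fin 6 → Vec K := ![G0, Y, Ev, Dv, M, I]
  have z {p q : Vec K} {r s : G} (hp : IsPt p) (hq : IsPt q) (pp : xa.sp.pt p = r)
      (pq : xa.sp.pt q = s) (c : Commute r s) : hb p q = 0 ∧ hb q p = 0 :=
    ⟨hb_of_comm h xa hp hq pp pq c, hb_of_comm h xa hq hp pq pp c.symm⟩
  have eGY : hb G0 Y = 1 := by rw [hb_conj hK Y G0, eYG, one_pow]
  have eED : hb Ev Dv = 1 := by rw [hb_conj hK Dv Ev, eDE, one_pow]
  have eDM : hb Dv M = 1 := by rw [hb_conj hK M Dv, eMD, one_pow]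
  have eMI : hb M I = 1 := by rw [hb_conj hK I M, eIM, one_pow]
  have g2 := z hG0 hEv pG0 pEv hEm.2.2
  have g3 := z hG0 hDv pG0 pDv hd.2.2.2
  have g4 := z hG0 hM pG0 pM hm.2.2.2
  have g5 := z hG0 hI pG0 pI hi.2.2.2
  have y2 := z hY hEv pY pEv c1.symm
  have y3 := z hY hDv pY pDv cdy.symm
  have y4 := z hY hM pY pM cmy.symm
  have y5 := z hY hI pY pI ciy.symm
  have e4 := z hEv hM pEv pM cEm
  have e5 := z hEv hI pEv pI cEi
  have d5 := z hDv hI pDv pI cdi
  have eqs : ∀ c : Fin 6 → K, hb (comb u c) (u 0) = c 1 ∧ hb (comb u c) (u 1) = c 0 ∧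
      hb (comb u c) (u 2) = c 3 ∧ hb (comb u c) (u 3) = c 2 + c 4 ∧
      hb (comb u c) (u 4) = c 3 + c 5 ∧ hb (comb u c) (u 5) = c 4 := by
    intro c
    simp [hb_comb, u, hG0.2, hY.2, hEv.2, hDv.2, hM.2, hI.2, eYG, eGY, eDE, eED, eMD, eDM, eIM, eMI,
      g2.1, g2.2, g3.1, g3.2, g4.1, g4.2, g5.1, g5.2, y2.1, y2.2, y3.1, y3.2, y4.1, y4.2, y5.1,
      y5.2, e4.1, e4.2, e5.1, e5.2, d5.1, d5.2]
  obtain ⟨c, hc⟩ := span_six (u := u) (fun c hc => by
    obtain ⟨q0, q1, q2, q3, q4, q5⟩ := eqs c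
    rw [hc] at q0 q1 q2 q3 q4 q5
    funext k
    fin_cases k
    · exact q1.symm
    · exact q0.symm
    · show c 2 = 0; linear_combination -q3 + q5
    · exact q2.symm
    · exact q5.symm
    · show c 5 = 0; linear_combination -q4 + q2) Rv
  obtain ⟨q0, q1, q2, q3, q4, q5⟩ := eqs c
  rw [← hc] at q0 q1 q2 q3 q4 q5
  have r0 := (z hRv hG0 pRv pG0 hRm.2.2.symm).1
  have r1 := (z hRv hY pRv pY cRy).1
  have r3 := (z hRv hDv pRv pDv (comm_of_hb h xs hRp hvd rfl pd rd)).1
  have r4 := (z hRv hM pRv pM cRm).1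
  have r5 := (z hRv hI pRv pI (comm_of_hb h xs hRp hvi rfl pi' ri)).1
  have k0 : c 0 = 0 := q1.symm.trans r1
  have k1 : c 1 = 0 := q0.symm.trans r0
  have k4 : c 4 = 0 := q5.symm.trans r5
  have k2 : c 2 = 0 := by simpa [k4] using q3.symm.trans r3
  have k5 : c 5 = c 3 := ((add_eq_zero_iff_eq' hK).mp (q4.symm.trans r4)).symm
  refine comm_of_hb h xa hV hRv pV pRv ?_
  rw [hc]
  simp [comb, u, k0, k1, k2, k4, k5, hb_add_right hK, hb_smul_right, (z hV hDv pV pDv cvd).1,
    (z hV hI pV pI cvi).1]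

end Cfsg.Agent.H70.FiTwentyTwo
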