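import Cfsg.Agent.H70.FiTwentyTwo.Config

/-!
In a group of type M(22) a configuration of type `Y₃₃₂` satisfies the spider relation and the two
relations of type E7.
-/

set_option autoImplicit false

namespace Cfsg.Agent.H70.FiTwentyTwo

open Cfsg.Agent.H93

theorem commute_of_wval {G : Type*} [Group G] {f : ℕ → G} (hsq : ∀ x, f x * f x = 1) {w : List ℕ}
    {x : ℕ} (h : wval f (w ++ [x] ++ w.reverse ++ [x]) = 1) : Commute (wval f w) (f x) := by
  simp only [wval_append, wval_reverse hsq, wval_cons, wval_nil, mul_one] at h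
  have h2 := mul_eq_one_iff_eq_inv.mp h
  rw [inv_eq_of_mul_eq_one_left (hsq x), mul_inv_eq_iff_eq_mul] at h2
  exact h2

theorem red_z_all {G : Type*} [Group G] {f : ℕ → G} (hr : RelHolds tab f) :
    ∀ x ∈ ([0, 1, 2, 3, 4, 5, 7] : List ℕ), Commute (wval f wZ) (f x) := by
  intro x hx
  simp only [List.mem_cons, List.not_mem_nil, or_false] at hx
  rcases hx with rfl | rfl | rfl | rfl | rfl | rfl | rfl
  exacts [commute_of_wval hr.sq (reduces_sound hr red_zc0), commute_of_wval hr.sq (reduces_sound hr red_zc1),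
    commute_of_wval hr.sq (reduces_sound hr red_zc2), commute_of_wval hr.sq (reduces_sound hr red_zc3),
    commute_of_wval hr.sq (reduces_sound hr red_zc4), commute_of_wval hr.sq (reduces_sound hr red_zc5),
    commute_of_wval hr.sq (reduces_sound hr red_zc7)]

theorem red_v_all {G : Type*} [Group G] {f : ℕ → G} (hr : RelHolds tab f) :
    ∀ x ∈ ([1, 2, 3, 4, 5, 7, 8] : List ℕ), wval f (wV x ++ [1] ++ (wV x).reverse ++ [x]) = 1 := by
  intro x hx
  simp only [List.mem_cons, List.not_mem_nil, or_false] at hx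
  rcases hx with rfl | rfl | rfl | rfl | rfl | rfl | rfl
  exacts [reduces_sound hr red_v1, reduces_sound hr red_v2, reduces_sound hr red_v3,
    reduces_sound hr red_v4, reduces_sound hr red_v5, reduces_sound hr red_v7, reduces_sound hr red_v8]

theorem red_sp_all {G : Type*} [Group G] {f : ℕ → G} (hr : RelHolds tab f) :
    ∀ x ∈ ([1, 2, 3, 4, 5, 7, 8] : List ℕ),
      wval f (wR ++ [x] ++ wR.reverse ++ (wY x).reverse) = 1 := by
  intro x hx
  simp only [List.mem_cons, List.not_mem_nil, or_false] at hx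
  rcases hx with rfl | rfl | rfl | rfl | rfl | rfl | rfl
  exacts [reduces_sound hr red_sp1, reduces_sound hr red_sp2, reduces_sound hr red_sp3,
    reduces_sound hr red_sp4, reduces_sound hr red_sp5, reduces_sound hr red_sp7,
    reduces_sound hr red_sp8]

theorem red_bp_all {G : Type*} [Group G] {f : ℕ → G} (hr : RelHolds tab f) :
    ∀ x ∈ ([3, 4, 5, 7, 8] : List ℕ), wval f (wB ++ [x] ++ wB ++ [x]) = 1 := by
  intro x hx
  simp only [List.mem_cons, List.not_mem_nil, or_false] at hx
  rcases hx with rfl | rfl | rfl | rfl | rfl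
  exacts [reduces_sound hr red_bp3, reduces_sound hr red_bp4, reduces_sound hr red_bp5,
    reduces_sound hr red_bp7, reduces_sound hr red_bp8]

theorem wB_split : wB = wB.take 10 ++ [2] ++ (wB.take 10).reverse := by decide +kernel

theorem wY_cases : ∀ x ∈ ([1, 2, 3, 5, 7, 8] : List ℕ),
    wY x = wV x ++ ((List.replicate 3 ([1] ++ wB)).flatten ++ [1]) ++ (wV x).reverse ∨
      wY x = wV x ++ ((List.replicate 3 (wB ++ [1])).flatten ++ [1]) ++ (wV x).reverse := by
  intro x hx
  simp only [List.mem_cons, List.not_mem_nil, or_false] at hx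
  rcases hx with rfl | rfl | rfl | rfl | rfl | rfl
  exacts [Or.inr rfl, Or.inl rfl, Or.inl rfl, Or.inr rfl, Or.inr rfl, Or.inr rfl]

theorem wB_letters : ∀ x ∈ wB, x = 2 ∨ x = 3 ∨ x = 4 ∨ x = 5 ∨ x = 7 ∨ x = 8 := by decide +kernel

variable {G : Type*} [Group G] {D : Set G} {K : Type*} [Field K] [Fintype K] [Finite G]
  (h : Geo22 D K) {p : Fin 9 → G} (hc : Config D p)

include h hc

/-- the seven generators of type E7 multiply to an element of order dividing nine -/
theorem e_seven : wval (ext9 p) wZ = 1 := by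
  have hK := h.hK
  have htt := h.core.tt
  have hr := hc.rels htt
  have ef : ∀ j : Fin 9, ext9 p j.val = p j := fun j => by simp [ext9]
  set z := wval (ext9 p) wZ with hz
  have cz : ∀ j : Fin 9, j.val ≠ 6 → j.val ≠ 8 → Commute z (p j) := fun j h6 h8 => by
    rw [← ef j]
    refine red_z_all hr j.val ?_
    have := j.isLt
    simp only [List.mem_cons, List.not_mem_nil, or_false]
    omega
  have ha := hc.mem 0
  obtain ⟨π, he, ⟨xs⟩⟩ := h.exists_space ha
  have hza : z ∈ Subgroup.centralizer ({p 0} : Set G) :=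
    mem_cent (cz 0 (by decide) (by decide)).symm
  let x : Fin 6 → G := ![p 6, p 5, p 4, p 3, p 7, p 8]
  have hx : ∀ k, x k ∈ nb D (p 0) := by
    intro k
    fin_cases k <;> exact hc.nb (by decide) (by decide +kernel)
  have hpat : PathPat x := by
    intro j k
    fin_cases j <;> fin_cases k <;>
      (refine (hc.pat _ _).trans ?_; decide +kernel)
  obtain ⟨u, hu, hpath⟩ := path_vecs hK h xs hx hpat
  -- the position of `c`
  obtain ⟨C, hC, pC⟩ := xs.sp.surj (p 2) (hc.nb (j := 0) (by decide) (by decide +kernel))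
  have h11 : (1 : K) + 1 = 0 := add_self_zero hK 1
  have eC : ∃ t : K, t ≠ 0 ∧ C = t • (u 0 + u 2) := by
    obtain ⟨c, hcc⟩ := path_span hpath C
    obtain ⟨a0, a1, a2, a3, a4, a5⟩ := path_eqs hpath c
    rw [← hcc] at a0 a1 a2 a3 a4 a5
    have k : ∀ (i : Fin 6) (j : Fin 9), x i = p j → adjB tab 2 j.val = false → hb C (u i) = 0 :=
      fun i j e hadj => hb_of_comm h xs hC (hu i).1 pC (hu i).2 (e ▸ (hc.pat 2 j).mpr hadj)
    have c1 : c 1 = 0 := a0.symm.trans (k 0 6 rfl (by decide +kernel))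
    have c3 : c 3 = 0 := by
      have := a2.symm.trans (k 2 4 rfl (by decide +kernel))
      simpa [c1] using this
    have c5 : c 5 = 0 := by
      have := a4.symm.trans (k 4 7 rfl (by decide +kernel))
      simpa [c3] using this
    have c4 : c 4 = 0 := a5.symm.trans (k 5 8 rfl (by decide +kernel))
    have c02 : c 0 = c 2 := (add_eq_zero_iff_eq' hK).mp (a1.symm.trans (k 1 5 rfl (by decide +kernel)))
    refine ⟨c 0, fun q => hC.1 ?_, ?_⟩
    · rw [hcc]; simp [comb, c1, c3, c4, c5, ← c02, q]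
    · rw [hcc]; simp [comb, c1, c3, c4, c5, ← c02, smul_add]
  obtain ⟨g, hg⟩ := QuotientGroup.mk_surjective (π ⟨z, hza⟩)
  have fl := fun {v : Vec K} (hv : IsPt v) (q : Commute z (xs.sp.pt v)) =>
    fixed_line h ha he xs hza hg.symm hv q
  have fu : ∀ (i : Fin 6) (j : Fin 9), x i = p j → j.val ≠ 6 → j.val ≠ 8 →
      ∃ t : K, t ≠ 0 ∧ act g (u i) = t • u i := fun i j e h6 h8 =>
    fl (hu i).1 (by rw [(hu i).2, e]; exact cz j h6 h8)
  obtain ⟨l1, n1, e1⟩ := fu 1 5 rfl (by decide) (by decide)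
  obtain ⟨l2, n2, e2⟩ := fu 2 4 rfl (by decide) (by decide)
  obtain ⟨l3, n3, e3⟩ := fu 3 3 rfl (by decide) (by decide)
  obtain ⟨l4, n4, e4⟩ := fu 4 7 rfl (by decide) (by decide)
  obtain ⟨lc, nc, ec⟩ := fl hC (by rw [pC]; exact cz 2 (by decide) (by decide))
  have lk : ∀ {i j : Fin 6}, (i.val + 1 = j.val ∨ j.val + 1 = i.val) → hb (u i) (u j) ≠ 0 :=
    fun {i j} hij => by rw [hpath i j, pathG, if_pos hij]; exact one_ne_zero
  have q12 := same_scalar hK n1 e1 e2 (lk (by decide))
  have q23 := same_scalar hK n2 e2 e3 (lk (by decide))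
  have q34 := same_scalar hK n3 e3 e4 (lk (by decide))
  obtain ⟨t, ht, hCt⟩ := eC
  have qc : lc = l3 := same_scalar hK nc ec e3 (by
    rw [hCt, hb_smul_left]
    simp [hb_add_left, hpath _ _, pathG, ht])
  have e0 : act g (u 0) = l2 • u 0 := by
    have h1 : act g (u 0 + u 2) = l2 • (u 0 + u 2) := by
      have := ec
      rw [hCt, act_smul, qc, ← q23, smul_comm] at this
      exact smul_right_injective (Vec K) ht this
    rw [act_add, e2, smul_add] at h1
    exact add_right_cancel h1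
  have fix : ∀ j : Fin 6, j.val < 5 → act g (u j) = l2 • u j := by
    intro j hj
    fin_cases j
    · exact e0
    · exact q12 ▸ e1
    · exact e2
    · exact q23.symm ▸ e3
    · exact (q23.trans q34).symm ▸ e4
    · exact absurd hj (by decide)
  set r := xs.sp.pt (u 0 + u 2 + u 4) with hr_def
  obtain ⟨hrp, hr5, -⟩ := path_radical hK hpath
  have hrn := xs.sp.mem hrp
  have hrb := hc.mem 1
  have nab : ¬ Commute (p 1) (p 0) := hc.not_comm (by decide +kernel)
  have cb := cz 1 (by decide) (by decide)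
  rcases cent_five h ha he xs hza hg.symm hpath (fun j => (hu j).1) n2 fix with q | q | q | q
  · exact q
  · exact absurd (q ▸ cb).symm nab
  · exfalso
    rw [← hr_def] at q
    have hrcom : r ∈ common D (p 0) (p 1) :=
      ⟨hrn, hrn.1, fun e => nab (e ▸ hrn.2.2.symm), (q ▸ cb).symm⟩
    refine no_five h ha hrb (fun e => nab e.symm) (fun k => ⟨hx k, ?_⟩) hpat hrcom fun k hk =>
      comm_of_hb h xs hrp (hu k).1 rfl (hu k).2 (hr5 k hk)
    fin_cases k <;> exact hc.nb (by decide) (by decide +kernel)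
  · exfalso
    rw [← hr_def] at q
    exact nab (htt.commute_of_commute_mul hrb hrn.1 ha hrn.2.1 (q ▸ cb).symm).2

/-- the spider -/
theorem spider : wval (ext9 p) wR = 1 := by
  have hK := h.hK
  have htt := h.core.tt
  have hr := hc.rels htt
  have ef : ∀ j : Fin 9, ext9 p j.val = p j := fun j => by simp [ext9]
  set B := wval (ext9 p) wB with hB
  have hBD : B ∈ D := by
    rw [hB, wB_split]
    exact wval_conj_mem htt hr.sq _ ((ef 2).symm ▸ hc.mem 2)
  have cBa : Commute (p 0) B := by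
    refine wval_commute _ fun x hx => ?_
    rcases wB_letters x hx with rfl | rfl | rfl | rfl | rfl | rfl <;>
      first
        | exact ef 2 ▸ (hc.pat 0 2).mpr (by decide +kernel)
        | exact ef 3 ▸ (hc.pat 0 3).mpr (by decide +kernel)
        | exact ef 4 ▸ (hc.pat 0 4).mpr (by decide +kernel)
        | exact ef 5 ▸ (hc.pat 0 5).mpr (by decide +kernel)
        | exact ef 7 ▸ (hc.pat 0 7).mpr (by decide +kernel)
        | exact ef 8 ▸ (hc.pat 0 8).mpr (by decide +kernel)
  have cBx : ∀ x ∈ ([3, 4, 5, 7, 8] : List ℕ), Commute B (ext9 p x) := by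
    intro x hx
    have := red_bp_all hr x hx
    simp only [wval_append, wval_cons, wval_nil, mul_one, ← hB] at this
    have h2 := mul_eq_one_iff_eq_inv.mp this
    rw [inv_eq_of_mul_eq_one_left (hr.sq x)] at h2
    have h3 : B * ext9 p x * B = ext9 p x := h2
    show B * ext9 p x = ext9 p x * B
    calc B * ext9 p x = B * ext9 p x * (B * B) := by rw [htt.sq B hBD, mul_one]
      _ = B * ext9 p x * B * B := by group
      _ = ext9 p x * B := by rw [h3]
  have nab : ¬ Commute (p 0) (p 1) := hc.not_comm (by decide +kernel)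
  have cBp : ∀ j : Fin 9, j.val ∈ ([3, 4, 5, 7, 8] : List ℕ) → Commute B (p j) := fun j hj => by
    rw [← ef j]; exact cBx _ hj
  let x : Fin 6 → G := ![p 8, p 7, p 3, p 4, p 5, p 6]
  have hx : ∀ k, x k ∈ common D (p 1) (p 0) := by
    intro k
    fin_cases k <;> exact ⟨hc.nb (by decide) (by decide +kernel), hc.nb (by decide) (by decide +kernel)⟩
  have hpat : PathPat x := by
    intro j k
    fin_cases j <;> fin_cases k <;>
      (refine (hc.pat _ _).trans ?_; decide +kernel)
  have nB : ¬ Commute (p 1) B := by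
    intro q
    refine no_five h (hc.mem 1) (hc.mem 0) (fun e => nab e.symm) hx hpat (y := B)
      ⟨⟨hBD, fun e => nab (e ▸ cBa), q⟩, hBD, fun e => nab (e ▸ q).symm, cBa⟩ fun k hk => ?_
    fin_cases k
    · exact cBp 8 (by decide)
    · exact cBp 7 (by decide)
    · exact cBp 3 (by decide)
    · exact cBp 4 (by decide)
    · exact cBp 5 (by decide)
    · exact absurd hk (by decide)
  set R := wval (ext9 p) wR with hR
  have cR : ∀ x ∈ ([1, 2, 3, 4, 5, 7, 8] : List ℕ), Commute R (ext9 p x) := by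
    intro x hx
    have h1 := red_sp_all hr x hx
    have h2 := red_v_all hr x hx
    simp only [wval_append, wval_reverse hr.sq, wval_cons, wval_nil, mul_one, ← hR] at h1 h2
    have hv : wval (ext9 p) (wV x) * ext9 p 1 * (wval (ext9 p) (wV x))⁻¹ = ext9 p x := by
      have := mul_eq_one_iff_eq_inv.mp h2
      rwa [inv_eq_of_mul_eq_one_left (hr.sq x)] at this
    have hY : wval (ext9 p) (wY x) = ext9 p x := by
      by_cases h4 : x = 4
      · subst h4
        exact mul_one _
      have hx' : x ∈ ([1, 2, 3, 5, 7, 8] : List ℕ) := by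
        simp only [List.mem_cons, List.not_mem_nil, or_false] at hx ⊢
        omega
      have e1 : ext9 p 1 = p 1 := ef 1
      have c1 : (ext9 p 1 * B) ^ 3 = 1 := by rw [e1]; exact htt.cube (hc.mem 1) hBD nB
      have c2 : (B * ext9 p 1) ^ 3 = 1 := by
        rw [e1]; exact htt.cube hBD (hc.mem 1) (fun q => nB q.symm)
      rcases wY_cases x hx' with e | e <;>
        · rw [e]
          simp only [wval_append, wval_replicate, wval_reverse hr.sq, wval_cons, wval_nil, mul_one,
            ← hB, c1, c2, one_mul]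
          exact hv
    rw [hY] at h1
    have h3 := mul_inv_eq_one.mp h1
    exact mul_inv_eq_iff_eq_mul.mp h3
  have cp : ∀ j : Fin 9, j.val ≠ 0 → j.val ≠ 6 → Commute R (p j) := fun j h0 h6 => by
    rw [← ef j]
    refine cR j.val ?_
    have := j.isLt
    simp only [List.mem_cons, List.not_mem_nil, or_false]
    omega
  have hb1 := hc.mem 1
  obtain ⟨π, he, ⟨xs⟩⟩ := h.exists_space hb1
  have hRb : R ∈ Subgroup.centralizer ({p 1} : Set G) :=
    mem_cent (cp 1 (by decide) (by decide)).symm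
  obtain ⟨u, hu, hpath⟩ := path_vecs hK h xs (fun k => (hx k).1) hpat
  obtain ⟨g, hg⟩ := QuotientGroup.mk_surjective (π ⟨R, hRb⟩)
  have fu : ∀ (i : Fin 6) (j : Fin 9), x i = p j → j.val ≠ 0 → j.val ≠ 6 →
      ∃ t : K, t ≠ 0 ∧ act g (u i) = t • u i := fun i j e h0 h6 =>
    fixed_line h hb1 he xs hRb hg.symm (hu i).1 (by rw [(hu i).2, e]; exact cp j h0 h6)
  obtain ⟨l0, n0, e0⟩ := fu 0 8 rfl (by decide) (by decide)
  obtain ⟨l1, n1, e1⟩ := fu 1 7 rfl (by decide) (by decide)
  obtain ⟨l2, n2, e2⟩ := fu 2 3 rfl (by decide) (by decide)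
  obtain ⟨l3, n3, e3⟩ := fu 3 4 rfl (by decide) (by decide)
  obtain ⟨l4, n4, e4⟩ := fu 4 5 rfl (by decide) (by decide)
  have lk : ∀ {i j : Fin 6}, (i.val + 1 = j.val ∨ j.val + 1 = i.val) → hb (u i) (u j) ≠ 0 :=
    fun {i j} hij => by rw [hpath i j, pathG, if_pos hij]; exact one_ne_zero
  have q01 := same_scalar hK n0 e0 e1 (lk (by decide))
  have q12 := same_scalar hK n1 e1 e2 (lk (by decide))
  have q23 := same_scalar hK n2 e2 e3 (lk (by decide))
  have q34 := same_scalar hK n3 e3 e4 (lk (by decide))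
  have fix : ∀ j : Fin 6, j.val < 5 → act g (u j) = l0 • u j := by
    intro j hj
    fin_cases j
    · exact e0
    · exact q01.symm ▸ e1
    · exact (q01.trans q12).symm ▸ e2
    · exact ((q01.trans q12).trans q23).symm ▸ e3
    · exact (((q01.trans q12).trans q23).trans q34).symm ▸ e4
    · exact absurd hj (by decide)
  obtain ⟨hrp, hr5, -⟩ := path_radical hK hpath
  have hrn := xs.sp.mem hrp
  have hrx : ∀ k : Fin 6, k.val < 5 → Commute (xs.sp.pt (u 0 + u 2 + u 4)) (x k) := fun k hk =>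
    comm_of_hb h xs hrp (hu k).1 rfl (hu k).2 (hr5 k hk)
  have n12 : ¬ Commute (p 2) (p 1) := hc.not_comm (by decide +kernel)
  have c2 := cp 2 (by decide) (by decide)
  rcases cent_five h hb1 he xs hRb hg.symm hpath (fun j => (hu j).1) n0 fix with q | q | q | q
  · exact q
  · exact absurd (q ▸ c2).symm n12
  swap
  · exact absurd (htt.commute_of_commute_mul (hc.mem 2) hrn.1 hb1 hrn.2.1 (q ▸ c2).symm).2 n12
  exfalso
  set r := xs.sp.pt (u 0 + u 2 + u 4) with hr_def
  have hrc : Commute r (p 2) := q ▸ c2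
  obtain ⟨σ, -, ⟨rs⟩⟩ := h.exists_space hrn.1
  let y : Fin 6 → G := ![p 5, p 4, p 3, p 7, p 8, p 2]
  have cry : ∀ k, Commute r (y k) := by
    intro k
    fin_cases k
    exacts [hrx 4 (by decide), hrx 3 (by decide), hrx 2 (by decide), hrx 1 (by decide),
      hrx 0 (by decide), hrc]
  have ypat : ∀ j k : Fin 6, Commute (y j) (y k) ↔
      ¬ ((j.val < 5 ∧ k.val < 5 ∧ (j.val + 1 = k.val ∨ k.val + 1 = j.val)) ∨
        (j.val = 2 ∧ k.val = 5) ∨ (j.val = 5 ∧ k.val = 2)) := by
    intro j k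
    fin_cases j <;> fin_cases k <;>
      (refine (hc.pat _ _).trans ?_; decide +kernel)
  have hy : ∀ k, y k ∈ nb D r := by
    intro k
    refine ⟨by fin_cases k <;> exact hc.mem _, fun e => ?_, cry k⟩
    obtain ⟨l, hl⟩ := (by decide : ∀ k : Fin 6, ∃ l : Fin 6,
      (k.val < 5 ∧ l.val < 5 ∧ (k.val + 1 = l.val ∨ l.val + 1 = k.val)) ∨
        (k.val = 2 ∧ l.val = 5) ∨ (k.val = 5 ∧ l.val = 2)) k
    exact (ypat k l).mp (e ▸ cry l) hl
  obtain ⟨v, hv, htree⟩ := tree_vecs hK h rs hy ypat
  have hbr : p 1 ∈ nb D r := nb_symm hb1 hrn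
  have hBr : B ∈ nb D r := by
    have cBr : Commute r B := by
      refine wval_commute _ fun x hx => ?_
      rcases wB_letters x hx with rfl | rfl | rfl | rfl | rfl | rfl
      exacts [ef 2 ▸ cry 5, ef 3 ▸ cry 2, ef 4 ▸ cry 1, ef 5 ▸ cry 0, ef 7 ▸ cry 3, ef 8 ▸ cry 4]
    exact ⟨hBD, fun e => nB (e ▸ hrn.2.2), cBr⟩
  obtain ⟨V, hV, pV⟩ := rs.sp.surj _ hbr
  obtain ⟨W, hW, pW⟩ := rs.sp.surj _ hBr
  have perpV : ∀ k : Fin 6, k.val < 5 → hb V (v k) = 0 := by
    intro k hk
    refine hb_of_comm h rs hV (hv k).1 pV (hv k).2 ?_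
    fin_cases k <;> first
      | exact absurd hk (by decide)
      | exact (hc.pat _ _).mpr (by decide +kernel)
  have perpW : ∀ k : Fin 6, k.val < 5 → hb W (v k) = 0 := by
    intro k hk
    refine hb_of_comm h rs hW (hv k).1 pW (hv k).2 ?_
    fin_cases k
    exacts [cBp 5 (by decide), cBp 4 (by decide), cBp 3 (by decide),
      cBp 7 (by decide), cBp 8 (by decide), absurd hk (by decide)]
  have eV := tree_perp hK htree perpV
  have eW := tree_perp hK htree perpW
  have hne : hb V (v 5) ≠ 0 := fun e => hV.1 (by rw [eV, e, zero_smul])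
  have : SamePt V W := ⟨hb W (v 5) / hb V (v 5),
    calc W = hb W (v 5) • (v 0 + v 2 + v 4) := eW
      _ = (hb W (v 5) / hb V (v 5)) • (hb V (v 5) • (v 0 + v 2 + v 4)) := by
        rw [smul_smul, div_mul_cancel₀ _ hne]
      _ = (hb W (v 5) / hb V (v 5)) • V := by rw [← eV]⟩
  exact nB ((pV.symm.trans ((rs.sp.same hV hW).mpr this)).trans pW ▸ Commute.refl _)

end Cfsg.Agent.H70.FiTwentyTwo
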