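import Mathlib

/-!
Kernel-checkable reduction of words in simply laced Coxeter relations.

A word is carried as a pair of lists around a cursor; the steps move the cursor, interchange two
letters that commute, apply a braid move, or delete a repeated letter.
-/

set_option autoImplicit false

namespace Cfsg.Agent.H70.FiTwentyTwo

/-- adjacency on the nine letters, from an 81-bit table -/
def adjB (m x y : ℕ) : Bool :=
  Nat.blt x 9 && Nat.blt y 9 && Nat.beq ((m >>> (x * 9 + y)) &&& 1) 1

/-- one step -/
def opStep (m o : ℕ) : List ℕ × List ℕ → Option (List ℕ × List ℕ)
  | (L, x :: R) =>
    if Nat.beq o 1 then some (x :: L, R)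
    else if Nat.beq o 2 then
      match L with
      | y :: L' => some (L', y :: x :: R)
      | [] => none
    else if Nat.beq o 3 then
      match R with
      | y :: R' => if adjB m x y then none else some (L, y :: x :: R')
      | [] => none
    else if Nat.beq o 4 then
      match R with
      | y :: z :: R' => if adjB m x y && Nat.beq z x then some (L, y :: x :: y :: R') else none
      | _ => none
    else if Nat.beq o 5 then
      match R with
      | y :: R' => if Nat.beq x y then some (L, R') else none
      | [] => none
    else none
  | (y :: L', []) => if Nat.beq o 2 then some (L', [y]) else none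
  | ([], []) => none

/-- a chunk of steps, three bits each, ended by zero -/
def opChunk (m : ℕ) : ℕ → ℕ → List ℕ × List ℕ → Option (List ℕ × List ℕ)
  | 0, _, s => some s
  | k + 1, c, s =>
    if Nat.beq c 0 then some s else
      match opStep m (c &&& 7) s with
      | some s' => opChunk m k (c >>> 3) s'
      | none => none

/-- all chunks -/
def opAll (m : ℕ) : List ℕ → List ℕ × List ℕ → Option (List ℕ × List ℕ)
  | [], s => some s
  | c :: cs, s =>
    match opChunk m 64 c s with
    | some s' => opAll m cs s'
    | none => none

/-- the steps reduce the word to the empty one -/
def reduces (m : ℕ) (w ops : List ℕ) : Bool :=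
  match opAll m ops ([], w) with
  | some ([], []) => true
  | _ => false

variable {G : Type*} [Group G]

/-- value of a word -/
def wval (f : ℕ → G) (w : List ℕ) : G := (w.map f).prod

theorem wval_nil (f : ℕ → G) : wval f [] = 1 := rfl

theorem wval_cons (f : ℕ → G) (x : ℕ) (w : List ℕ) : wval f (x :: w) = f x * wval f w := rfl

theorem wval_append (f : ℕ → G) (u w : List ℕ) : wval f (u ++ w) = wval f u * wval f w := by
  simp [wval]

theorem wval_reverse {f : ℕ → G} (hsq : ∀ x, f x * f x = 1) (w : List ℕ) :
    wval f w.reverse = (wval f w)⁻¹ := by
  induction w with
  | nil => simp [wval]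
  | cons x w ih =>
    rw [List.reverse_cons, wval_append, ih, wval_cons, wval_cons, wval_nil, mul_one, mul_inv_rev,
      ← eq_inv_of_mul_eq_one_left (hsq x)]

theorem wval_replicate (f : ℕ → G) (n : ℕ) (w : List ℕ) :
    wval f (List.replicate n w).flatten = (wval f w) ^ n := by
  induction n with
  | zero => simp [wval]
  | succ n ih => rw [List.replicate_succ, List.flatten_cons, wval_append, ih, pow_succ']

/-- the generators satisfy the Coxeter relations of the table -/
structure RelHolds (m : ℕ) (f : ℕ → G) : Prop where
  sq : ∀ x, f x * f x = 1
  comm : ∀ x y, adjB m x y = false → Commute (f x) (f y)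
  braid : ∀ x y, adjB m x y = true → f x * f y * f x = f y * f x * f y

/-- the value of a state -/
def sval (f : ℕ → G) (s : List ℕ × List ℕ) : G := wval f s.1.reverse * wval f s.2

variable {m : ℕ} {f : ℕ → G}

theorem opStep_sval (h : RelHolds m f) {o : ℕ} {s s' : List ℕ × List ℕ}
    (e : opStep m o s = some s') : sval f s' = sval f s := by
  obtain ⟨L, R⟩ := s
  cases R with
  | nil =>
    cases L with
    | nil => simp [opStep] at e
    | cons y L =>
      simp only [opStep] at e
      split at e
      · cases e
        simp [sval, wval]
      · cases e
  | cons x R =>
    simp only [opStep] at e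
    split at e
    · cases e
      simp [sval, wval, mul_assoc]
    split at e
    · split at e
      · cases e
        simp [sval, wval, mul_assoc]
      · cases e
    split at e
    · split at e
      · split at e
        · cases e
        · next y R' hadj =>
          cases e
          simp only [sval, wval_cons, ← mul_assoc]
          rw [mul_assoc _ (f y) (f x), mul_assoc _ (f x) (f y),
            (h.comm x y (by simpa using hadj)).eq]
      · cases e
    split at e
    · split at e
      · split at e
        · next y z R' hadj =>
          cases e
          simp only [Bool.and_eq_true, Nat.beq_eq] at hadj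
          obtain ⟨ha, rfl⟩ := hadj
          simp only [sval, wval_cons]
          congr 1
          simp only [← mul_assoc]
          rw [h.braid _ _ ha]
        · cases e
      · cases e
    split at e
    · split at e
      · split at e
        · next y R' hxy =>
          cases e
          obtain rfl := Nat.eq_of_beq_eq_true hxy
          simp only [sval, wval_cons]
          rw [← mul_assoc (f x) (f x), h.sq x, one_mul]
        · cases e
      · cases e
    · cases e

theorem opChunk_sval (h : RelHolds m f) : ∀ (k c : ℕ) (s s' : List ℕ × List ℕ),
    opChunk m k c s = some s' → sval f s' = sval f s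
  | 0, _, _, _, e => by cases e; rfl
  | k + 1, c, s, s', e => by
    simp only [opChunk] at e
    split at e
    · cases e; rfl
    split at e
    · next s1 e1 => rw [opChunk_sval h k _ _ _ e, opStep_sval h e1]
    · cases e

theorem opAll_sval (h : RelHolds m f) : ∀ (cs : List ℕ) (s s' : List ℕ × List ℕ),
    opAll m cs s = some s' → sval f s' = sval f s
  | [], _, _, e => by cases e; rfl
  | c :: cs, s, s', e => by
    simp only [opAll] at e
    split at e
    · next s1 e1 => rw [opAll_sval h cs _ _ e, opChunk_sval h _ _ _ _ e1]
    · cases e

/-- a reduced word has trivial value -/
theorem reduces_sound (h : RelHolds m f) {w ops : List ℕ} (e : reduces m w ops = true) :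
    wval f w = 1 := by
  unfold reduces at e
  split at e
  · next e1 =>
    have := opAll_sval h _ _ _ e1
    simpa [sval, wval] using this.symm
  · cases e

end Cfsg.Agent.H70.FiTwentyTwo
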